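import Cfsg.Agent.H166.Cov.Defs
import Cfsg.Agent.H171.ElemDiv
import Cfsg.Agent.H953.Rcf

/-!
# Decompositions into cyclic maps (helper269, for S2483, helper166)
-/

set_option autoImplicit false

namespace Cfsg.Agent.H269.CovDec

open Module Polynomial Cfsg.Agent.H166.Cov

universe u

variable {F : Type u} [Field F] {V W U : Type u} [AddCommGroup V] [Module F V] [AddCommGroup W] [Module F W]
  [AddCommGroup U] [Module F U]

/-! ### similarity -/

theorem sim_refl (T : End F V) : Sim T T := ⟨LinearEquiv.refl F V, fun _ => rfl⟩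

theorem sim_symm {S : End F V} {T : End F W} (h : Sim S T) : Sim T S := by
  obtain ⟨e, he⟩ := h
  exact ⟨e.symm, fun x => by rw [e.symm_apply_eq, he, e.apply_symm_apply]⟩

theorem sim_trans {S : End F V} {T : End F W} {R : End F U} (h : Sim S T) (h' : Sim T R) : Sim S R := by
  obtain ⟨e, he⟩ := h
  obtain ⟨e', he'⟩ := h'
  exact ⟨e.trans e', fun x => by rw [LinearEquiv.trans_apply, LinearEquiv.trans_apply, he, he']⟩

theorem sim_prod {V' W' : Type u} [AddCommGroup V'] [Module F V'] [AddCommGroup W'] [Module F W']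
    {S : End F V} {T : End F W} {S' : End F V'} {T' : End F W'} (h : Sim S T) (h' : Sim S' T') :
    Sim (S.prodMap S') (T.prodMap T') := by
  obtain ⟨e, he⟩ := h
  obtain ⟨e', he'⟩ := h'
  exact ⟨e.prodCongr e', fun x => Prod.ext (he _) (he' _)⟩

theorem sim_prodComm (S : End F V) (T : End F W) : Sim (S.prodMap T) (T.prodMap S) :=
  ⟨LinearEquiv.prodComm F V W, fun _ => rfl⟩

theorem sim_prodAssoc (S : End F V) (T : End F W) (R : End F U) :
    Sim ((S.prodMap T).prodMap R) (S.prodMap (T.prodMap R)) :=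
  ⟨LinearEquiv.prodAssoc F V W U, fun _ => rfl⟩

theorem sim_conj (T : End F V) (e : V ≃ₗ[F] W) : Sim T (e.conj T) :=
  ⟨e, fun x => by rw [LinearEquiv.conj_apply_apply, e.symm_apply_apply]⟩

theorem sim_fin [FiniteDimensional F V] (T : End F V) {m : ℕ} (hm : finrank F V = m) :
    ∃ T' : End F (Fin m → F), Sim T T' :=
  ⟨_, sim_conj T (LinearEquiv.ofFinrankEq V (Fin m → F) (by rw [hm, finrank_fin_fun]))⟩

theorem sim_charpoly [FiniteDimensional F V] [FiniteDimensional F W] {S : End F V} {T : End F W} (h : Sim S T) :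
    LinearMap.charpoly S = LinearMap.charpoly T := by
  obtain ⟨e, he⟩ := h
  have h1 : T = e.conj S := by
    ext x
    rw [LinearEquiv.conj_apply_apply, he, e.apply_symm_apply]
  rw [h1, LinearEquiv.charpoly_conj]

theorem sim_coc {S : End F V} {T : End F W} (h : Sim S T) (hS : Coc S) : Coc T := by
  obtain ⟨e, he⟩ := h
  obtain ⟨φ, hφ⟩ := hS
  refine ⟨φ ∘ₗ e.symm.toLinearMap, fun K hK hT => ?_⟩
  have h1 := hφ (K.comap e.toLinearMap) (fun x hx => ?_) (fun x hx => ?_)
  · rw [eq_bot_iff]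
    intro x hx
    have h2 : e.symm x ∈ K.comap e.toLinearMap := by
      rw [Submodule.mem_comap]
      simpa using hx
    rw [h1, Submodule.mem_bot] at h2
    rw [Submodule.mem_bot]
    simpa using h2
  · have := hK (e x) hx
    simpa using this
  · rw [Submodule.mem_comap] at hx ⊢
    have := hT _ hx
    simpa [he] using this

/-! ### permutations -/

theorem Dec.sim {L : List F[X]} {m : ℕ} {S T : End F (Fin m → F)} (h : Sim S T) (hS : Dec L S) : Dec L T := by
  cases L with
  | nil => exact hS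
  | cons f L =>
    obtain ⟨m₁, m₂, T₁, T₂, h1, h2, h3, h4⟩ := hS
    exact ⟨m₁, m₂, T₁, T₂, h1, h2, h3, sim_trans (sim_symm h) h4⟩

/-- decomposition of an endomorphism of any space -/
def DecV (L : List F[X]) (T : End F V) : Prop := ∃ (m : ℕ) (T' : End F (Fin m → F)), Sim T T' ∧ Dec L T'

theorem DecV.sim {L : List F[X]} {S : End F V} {T : End F W} (h : Sim S T) (hS : DecV L S) : DecV L T := by
  obtain ⟨m, T', h1, h2⟩ := hS
  exact ⟨m, T', sim_trans (sim_symm h) h1, h2⟩

theorem sim_fin_eq {m m' : ℕ} {S : End F (Fin m → F)} {T : End F (Fin m' → F)} (h : Sim S T) : m = m' := by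
  obtain ⟨e, -⟩ := h
  have := e.finrank_eq
  rwa [finrank_fin_fun, finrank_fin_fun] at this

theorem DecV.dec {L : List F[X]} {m : ℕ} {T : End F (Fin m → F)} (h : DecV L T) : Dec L T := by
  obtain ⟨m', T', h1, h2⟩ := h
  obtain rfl := sim_fin_eq h1
  exact Dec.sim (sim_symm h1) h2

theorem Dec.decV {L : List F[X]} {m : ℕ} {T : End F (Fin m → F)} (h : Dec L T) : DecV L T :=
  ⟨m, T, sim_refl _, h⟩

theorem decV_cons [FiniteDimensional F V] {f : F[X]} {L : List F[X]} {T : End F V} :
    DecV (f :: L) T ↔ ∃ (m₁ m₂ : ℕ) (T₁ : End F (Fin m₁ → F)) (T₂ : End F (Fin m₂ → F)),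
      Coc T₁ ∧ LinearMap.charpoly T₁ = f ∧ Dec L T₂ ∧ Sim T (T₁.prodMap T₂) := by
  constructor
  · rintro ⟨m, T', h1, m₁, m₂, T₁, T₂, h2, h3, h4, h5⟩
    exact ⟨m₁, m₂, T₁, T₂, h2, h3, h4, sim_trans h1 h5⟩
  · rintro ⟨m₁, m₂, T₁, T₂, h2, h3, h4, h5⟩
    obtain ⟨T', hT'⟩ := sim_fin T rfl
    exact ⟨_, T', hT', m₁, m₂, T₁, T₂, h2, h3, h4, sim_trans (sim_symm hT') h5⟩

theorem decV_prod [FiniteDimensional F V] [FiniteDimensional F W] {f : F[X]} {L : List F[X]} {S : End F V}
    {T : End F W} (hS : Coc S) (hf : LinearMap.charpoly S = f) (hT : DecV L T) : DecV (f :: L) (S.prodMap T) := by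
  obtain ⟨S', hS'⟩ := sim_fin S rfl
  obtain ⟨m, T', h1, h2⟩ := hT
  exact decV_cons.2 ⟨_, _, S', T', sim_coc hS' hS, by rw [← sim_charpoly hS', hf], h2, sim_prod hS' h1⟩

theorem Dec.perm {L L' : List F[X]} (h : L.Perm L') {m : ℕ} {T : End F (Fin m → F)} (hT : Dec L T) : Dec L' T := by
  induction h generalizing m with
  | nil => exact hT
  | cons f _ ih =>
    obtain ⟨m₁, m₂, T₁, T₂, h1, h2, h3, h4⟩ := hT
    exact ⟨m₁, m₂, T₁, T₂, h1, h2, ih h3, h4⟩
  | swap f g L =>
    obtain ⟨m₁, m₂, T₁, T₂, h1, h2, ⟨m₃, m₄, T₃, T₄, h3, h4, h5, h6⟩, h7⟩ := hT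
    refine DecV.dec (DecV.sim (S := T₃.prodMap (T₁.prodMap T₄)) ?_ (decV_prod h3 h4 (decV_prod h1 h2 (Dec.decV h5))))
    refine sim_trans (sim_symm (sim_prodAssoc _ _ _)) ?_
    refine sim_trans (sim_prod (sim_prodComm _ _) (sim_refl _)) ?_
    refine sim_trans (sim_prodAssoc _ _ _) ?_
    exact sim_trans (sim_prod (sim_refl _) (sim_symm h6)) (sim_symm h7)
  | trans _ _ ih1 ih2 => exact ih2 (ih1 hT)

/-! ### cocyclic maps -/

theorem aeval_prodMap (S : End F V) (T : End F W) (p : F[X]) (x : V × W) :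
    aeval (S.prodMap T) p x = (aeval S p x.1, aeval T p x.2) := by
  induction p using Polynomial.induction_on' with
  | add p q hp hq =>
    rw [map_add, LinearMap.add_apply, hp, hq, map_add, map_add, LinearMap.add_apply, LinearMap.add_apply]
    rfl
  | monomial n a =>
    have h1 : ∀ n : ℕ, ∀ x : V × W, ((S.prodMap T) ^ n) x = ((S ^ n) x.1, (T ^ n) x.2) := by
      intro n
      induction n with
      | zero => intro x; rfl
      | succ n ih => intro x; rw [pow_succ, pow_succ, pow_succ]; exact ih _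
    rw [aeval_monomial, aeval_monomial, aeval_monomial]
    simp [Module.algebraMap_end_apply, h1, Prod.smul_mk]

theorem aeval_mem {T : End F V} {K : Submodule F V} (hK : ∀ x ∈ K, T x ∈ K) (p : F[X]) {x : V} (hx : x ∈ K) :
    aeval T p x ∈ K := by
  have h1 : ∀ n : ℕ, ∀ x ∈ K, (T ^ n) x ∈ K := by
    intro n
    induction n with
    | zero => intro x hx; exact hx
    | succ n ih => intro x hx; rw [pow_succ]; exact ih _ (hK _ hx)
  induction p using Polynomial.induction_on' with
  | add p q hp hq =>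
    rw [map_add, LinearMap.add_apply]
    exact K.add_mem hp hq
  | monomial n a =>
    rw [aeval_monomial]
    exact K.smul_mem _ (h1 n x hx)

theorem coc_prod [FiniteDimensional F V] [FiniteDimensional F W] {S : End F V} {T : End F W} (hS : Coc S)
    (hT : Coc T) (h : IsCoprime (LinearMap.charpoly S) (LinearMap.charpoly T)) : Coc (S.prodMap T) := by
  obtain ⟨φ, hφ⟩ := hS
  obtain ⟨ψ, hψ⟩ := hT
  refine ⟨φ.coprod ψ, fun K hK hi => ?_⟩
  have k1 : K.comap (LinearMap.inl F V W) = ⊥ := by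
    refine hφ _ (fun x hx => ?_) (fun x hx => ?_)
    · have := hK _ hx
      simpa using this
    · have := hi _ hx
      simpa using this
  have k2 : K.comap (LinearMap.inr F V W) = ⊥ := by
    refine hψ _ (fun x hx => ?_) (fun x hx => ?_)
    · have := hK _ hx
      simpa using this
    · have := hi _ hx
      simpa using this
  obtain ⟨a, b, hab⟩ := h
  rw [eq_bot_iff]
  rintro ⟨x, y⟩ hxy
  have c1 : aeval T (LinearMap.charpoly S) y = 0 := by
    have h1 := aeval_mem hi (LinearMap.charpoly S) hxy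
    rw [aeval_prodMap, LinearMap.aeval_self_charpoly] at h1
    have h2 : aeval T (LinearMap.charpoly S) y ∈ K.comap (LinearMap.inr F V W) := h1
    rw [k2] at h2
    exact h2
  have c2 : aeval S (LinearMap.charpoly T) x = 0 := by
    have h1 := aeval_mem hi (LinearMap.charpoly T) hxy
    rw [aeval_prodMap, LinearMap.aeval_self_charpoly] at h1
    have h2 : aeval S (LinearMap.charpoly T) x ∈ K.comap (LinearMap.inl F V W) := h1
    rw [k1] at h2
    exact h2
  have d1 : y = 0 := by
    have := congrArg (fun p : F[X] => aeval T p y) hab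
    simp only [map_add, map_mul, LinearMap.add_apply, Module.End.mul_apply, LinearMap.aeval_self_charpoly, map_one,
      Module.End.one_apply] at this
    rw [c1, LinearMap.zero_apply, map_zero, map_zero, add_zero] at this
    exact this.symm
  have d2 : x = 0 := by
    have := congrArg (fun p : F[X] => aeval S p x) hab
    simp only [map_add, map_mul, LinearMap.add_apply, Module.End.mul_apply, LinearMap.aeval_self_charpoly, map_one,
      Module.End.one_apply] at this
    rw [c2, LinearMap.zero_apply, map_zero, map_zero, add_zero] at this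
    exact this.symm
  rw [d1, d2]
  exact Submodule.zero_mem _

/-- linear recurrences -/
theorem rec_zero {p : F[X]} (hp : p.Monic) {a : ℕ → F}
    (ha : ∀ i, ∑ j ∈ Finset.range (p.natDegree + 1), p.coeff j * a (i + j) = 0) (h0 : ∀ i < p.natDegree, a i = 0) :
    ∀ i, a i = 0 := by
  intro i
  induction i using Nat.strong_induction_on with
  | _ i ih =>
    by_cases hi : i < p.natDegree
    · exact h0 i hi
    · have h1 := ha (i - p.natDegree)
      rw [Finset.sum_range_succ, hp.coeff_natDegree, one_mul, Nat.sub_add_cancel (not_lt.1 hi)] at h1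
      rw [Finset.sum_eq_zero, zero_add] at h1
      · exact h1
      · intro j hj
        rw [ih _ (by have := Finset.mem_range.1 hj; omega), mul_zero]

theorem rec_of_charpoly [FiniteDimensional F V] (T : End F V) (φ : V →ₗ[F] F) (x : V) (i : ℕ) :
    ∑ j ∈ Finset.range ((LinearMap.charpoly T).natDegree + 1), (LinearMap.charpoly T).coeff j * φ ((T ^ (i + j)) x) = 0 := by
  have h1 := LinearMap.aeval_self_charpoly T
  rw [aeval_eq_sum_range] at h1
  have h2 := congrArg (fun A : End F V => φ (A ((T ^ i) x))) h1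
  simp only [LinearMap.sum_apply, map_sum, LinearMap.smul_apply, map_smul, smul_eq_mul, LinearMap.zero_apply,
    map_zero] at h2
  rw [← h2]
  refine Finset.sum_congr rfl fun j _ => ?_
  rw [add_comm i j, pow_add]
  rfl

theorem Obs.eq_zero {φ : V →ₗ[F] F} {T : End F V} (h : Obs φ T) {x : V} (hx : ∀ i : ℕ, φ ((T ^ i) x) = 0) : x = 0 := by
  let K : Submodule F V :=
    { carrier := {x | ∀ i : ℕ, φ ((T ^ i) x) = 0}
      add_mem' := fun {a b} ha hb i => by rw [map_add, map_add, ha, hb, add_zero]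
      zero_mem' := fun i => by rw [map_zero, map_zero]
      smul_mem' := fun c a ha i => by rw [map_smul, map_smul, ha, smul_zero] }
  have h1 : K = ⊥ := by
    refine h K (fun y hy => hy 0) (fun y hy i => ?_)
    have := hy (i + 1)
    rw [pow_succ] at this
    exact this
  have h2 : x ∈ K := hx
  rw [h1] at h2
  exact h2

theorem sim_of_coc [FiniteDimensional F V] [FiniteDimensional F W] {S : End F V} {T : End F W} (hS : Coc S)
    (hT : Coc T) (h : LinearMap.charpoly S = LinearMap.charpoly T) : Sim S T := by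
  obtain ⟨φ, hφ⟩ := hS
  obtain ⟨ψ, hψ⟩ := hT
  set p := LinearMap.charpoly S with hp
  set n := p.natDegree with hn
  have hm : p.Monic := LinearMap.charpoly_monic S
  have hV : finrank F V = n := (LinearMap.charpoly_natDegree S).symm
  have hW : finrank F W = n := by rw [hn, h]; exact (LinearMap.charpoly_natDegree T).symm
  let A : V →ₗ[F] (Fin n → F) := LinearMap.pi fun i => φ ∘ₗ (S ^ (i : ℕ))
  let B : W →ₗ[F] (Fin n → F) := LinearMap.pi fun i => ψ ∘ₗ (T ^ (i : ℕ))
  have hA : ∀ x i, A x i = φ ((S ^ (i : ℕ)) x) := fun _ _ => rfl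
  have hB : ∀ x i, B x i = ψ ((T ^ (i : ℕ)) x) := fun _ _ => rfl
  have hAi : Function.Injective A := by
    rw [injective_iff_map_eq_zero]
    intro x hx
    refine Obs.eq_zero hφ (rec_zero hm (rec_of_charpoly S φ x) fun i hi => ?_)
    rw [← hA x ⟨i, hi⟩, hx]
    rfl
  have hBi : Function.Injective B := by
    rw [injective_iff_map_eq_zero]
    intro x hx
    refine Obs.eq_zero hψ (rec_zero hm (p := p) ?_ fun i hi => ?_)
    · rw [h]; exact rec_of_charpoly T ψ x
    · rw [← hB x ⟨i, hi⟩, hx]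
      rfl
  let eA : V ≃ₗ[F] (Fin n → F) := LinearEquiv.ofInjectiveOfFinrankEq A hAi (by rw [hV, finrank_fin_fun])
  let eB : W ≃ₗ[F] (Fin n → F) := LinearEquiv.ofInjectiveOfFinrankEq B hBi (by rw [hW, finrank_fin_fun])
  have key : ∀ x y, A x = B y → ∀ i : ℕ, φ ((S ^ i) x) = ψ ((T ^ i) y) := by
    intro x y hxy
    have h1 : ∀ i, φ ((S ^ i) x) - ψ ((T ^ i) y) = 0 := by
      refine rec_zero hm (a := fun i => φ ((S ^ i) x) - ψ ((T ^ i) y)) (fun i => ?_) (fun i hi => ?_)
      · simp only [mul_sub, Finset.sum_sub_distrib]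
        rw [rec_of_charpoly S φ x i]
        have := rec_of_charpoly T ψ y i
        rw [← h] at this
        rw [this, sub_zero]
      · have := congrFun hxy ⟨i, hi⟩
        rw [hA, hB] at this
        exact sub_eq_zero.2 this
    exact fun i => sub_eq_zero.1 (h1 i)
  refine ⟨eA.trans eB.symm, fun x => ?_⟩
  have e1 : ∀ x, A x = B ((eA.trans eB.symm) x) := by
    intro x
    have : eB ((eA.trans eB.symm) x) = eA x := by
      rw [LinearEquiv.trans_apply, LinearEquiv.apply_symm_apply]
    exact this.symm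
  rw [← sub_eq_zero]
  refine Obs.eq_zero hψ fun i => ?_
  rw [map_sub, map_sub, ← key _ _ (e1 (S x)) i, sub_eq_zero]
  have h2 := key _ _ (e1 x) (i + 1)
  rw [pow_succ, pow_succ] at h2
  exact h2

/-! ### the cyclic blocks -/

/-- multiplication by the root -/
noncomputable def blk (f : F[X]) : End F (AdjoinRoot f) := LinearMap.mulLeft F (AdjoinRoot.root f)

theorem blk_pow (f : F[X]) (n : ℕ) (x : AdjoinRoot f) : (blk f ^ n) x = AdjoinRoot.root f ^ n * x := by
  induction n generalizing x with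
  | zero => rw [pow_zero, pow_zero, one_mul]; rfl
  | succ n ih =>
    rw [pow_succ, Module.End.mul_apply, ih, pow_succ, mul_assoc]
    rfl

theorem pow_mem {T : End F V} {K : Submodule F V} (hK : ∀ x ∈ K, T x ∈ K) (n : ℕ) {x : V} (hx : x ∈ K) :
    (T ^ n) x ∈ K := by
  induction n generalizing x with
  | zero => exact hx
  | succ n ih => rw [pow_succ]; exact ih (hK _ hx)

theorem coc_blk {f : F[X]} (hf : f.Monic) : Coc (blk f) := by
  refine ⟨(lcoeff F (f.natDegree - 1)) ∘ₗ AdjoinRoot.modByMonicHom hf, fun K hK hi => ?_⟩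
  by_contra hne
  obtain ⟨x, hx, hx0⟩ := K.exists_mem_ne_zero_of_ne_bot hne
  obtain ⟨p, rfl⟩ := AdjoinRoot.mk_surjective x
  set q := p %ₘ f with hq
  have h1 : AdjoinRoot.mk f q = AdjoinRoot.mk f p := by
    rw [AdjoinRoot.mk_eq_mk, hq]
    exact ⟨-(p /ₘ f), by linear_combination modByMonic_add_div p f⟩
  have hq0 : q ≠ 0 := by
    intro e
    rw [e, map_zero] at h1
    exact hx0 h1.symm
  have hf1 : f ≠ 1 := by
    rintro rfl
    exact hq0 (by rw [hq, modByMonic_one])
  have hd : q.natDegree < f.natDegree := natDegree_modByMonic_lt p hf hf1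
  have h2 := pow_mem hi (f.natDegree - 1 - q.natDegree) hx
  rw [blk_pow, ← h1] at h2
  have h3 := hK _ h2
  have h4 : AdjoinRoot.root f ^ (f.natDegree - 1 - q.natDegree) * AdjoinRoot.mk f q =
      AdjoinRoot.mk f (X ^ (f.natDegree - 1 - q.natDegree) * q) := by
    rw [map_mul, map_pow]; rfl
  rw [h4, LinearMap.comp_apply, AdjoinRoot.modByMonicHom_mk, lcoeff_apply] at h3
  have h5 : (X ^ (f.natDegree - 1 - q.natDegree) * q).natDegree = f.natDegree - 1 := by
    rw [natDegree_mul (pow_ne_zero _ X_ne_zero) hq0, natDegree_X_pow]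
    omega
  have h6 : (X ^ (f.natDegree - 1 - q.natDegree) * q) %ₘ f = X ^ (f.natDegree - 1 - q.natDegree) * q := by
    rw [modByMonic_eq_self_iff hf]
    exact degree_lt_degree (by rw [h5]; omega)
  have h7 := coeff_natDegree (p := X ^ (f.natDegree - 1 - q.natDegree) * q)
  rw [h5] at h7
  rw [h6, h7, leadingCoeff_eq_zero] at h3
  exact mul_ne_zero (pow_ne_zero _ X_ne_zero) hq0 h3

theorem finite_blk {f : F[X]} (hf : f.Monic) : Module.Finite F (AdjoinRoot f) :=
  (AdjoinRoot.powerBasis' hf).finite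

theorem charpoly_blk {f : F[X]} (hf : f.Monic) [Module.Finite F (AdjoinRoot f)] :
    LinearMap.charpoly (blk f) = f := by
  rw [← LinearMap.charpoly_toMatrix (blk f) (AdjoinRoot.powerBasisAux' hf)]
  have h1 : LinearMap.toMatrix (AdjoinRoot.powerBasisAux' hf) (AdjoinRoot.powerBasisAux' hf) (blk f) =
      Algebra.leftMulMatrix (AdjoinRoot.powerBasisAux' hf) (AdjoinRoot.root f) := rfl
  rw [h1, ← Cfsg.Agent.H953.comp_eq_leftMulMatrix hf, Cfsg.Agent.H953.charpoly_comp hf]

theorem exists_coc {f : F[X]} (hf : f.Monic) {m : ℕ} (hd : f.natDegree = m) :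
    ∃ T : End F (Fin m → F), Coc T ∧ LinearMap.charpoly T = f := by
  have := finite_blk hf
  have h1 : finrank F (AdjoinRoot f) = m := by
    rw [(AdjoinRoot.powerBasis' hf).finrank, ← hd]
    rfl
  obtain ⟨T, hT⟩ := sim_fin (blk f) h1
  exact ⟨T, sim_coc hT (coc_blk hf), by rw [← sim_charpoly hT, charpoly_blk hf]⟩

/-- the quotient module as `AdjoinRoot` -/
noncomputable def eps (f : F[X]) : (F[X] ⧸ (Submodule.span F[X] {f})) ≃ₗ[F] AdjoinRoot f := LinearEquiv.refl F _

theorem eps_smul (f : F[X]) (x : F[X] ⧸ (Submodule.span F[X] {f})) :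
    eps f ((X : F[X]) • x) = AdjoinRoot.root f * eps f x := by
  induction x using Submodule.Quotient.induction_on with
  | H p => rfl

theorem exists_split {d : ℕ} (M : Fin (d + 1) → Type u) [∀ i, AddCommGroup (M i)] [∀ i, Module F (M i)]
    (ψ : V ≃ₗ[F] ∀ i, M i) {A : Type u} [AddCommGroup A] [Module F A] (ε : M 0 ≃ₗ[F] A) :
    ∃ e : V ≃ₗ[F] A × (∀ i : Fin d, M i.succ), ∀ v, e v = (ε (ψ v 0), fun i : Fin d => ψ v i.succ) :=
  ⟨ψ.trans ((Fin.consLinearEquiv F M).symm.trans (ε.prodCongr (LinearEquiv.refl F _))), fun _ => rfl⟩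

open Cfsg.Agent.H171.ElemDiv in
theorem decV_family : ∀ (d : ℕ) (c : Fin d → F[X] × ℕ), (∀ i, (c i).1.Monic) → ∀ {V : Type u} [AddCommGroup V]
    [Module F V] (T : End F V) (ψ : V ≃ₗ[F] (∀ i, Cyc (c i))), (∀ v, ψ (T v) = (X : F[X]) • ψ v) →
    DecV (List.ofFn fun i => (c i).1 ^ (c i).2) T := by
  intro d
  induction d with
  | zero =>
    intro c _ V _ _ T ψ _
    let e : V ≃ₗ[F] (Fin 0 → F) :=
      { toFun := fun _ => 0
        map_add' := fun _ _ => by simp
        map_smul' := fun _ _ => by simp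
        invFun := fun _ => 0
        left_inv := fun v => ψ.injective (Subsingleton.elim _ _)
        right_inv := fun v => Subsingleton.elim _ _ }
    rw [List.ofFn_zero]
    exact ⟨0, 0, ⟨e, fun x => Subsingleton.elim _ _⟩, rfl⟩
  | succ d ih =>
    intro c hc V _ _ T ψ hψ
    have hf : ((c 0).1 ^ (c 0).2).Monic := (hc 0).pow _
    have := finite_blk hf
    let W := ∀ i : Fin d, Cyc (c i.succ)
    let TW : End F W :=
      { toFun := fun w => (X : F[X]) • w
        map_add' := fun _ _ => smul_add _ _ _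
        map_smul' := fun a w => by rw [RingHom.id_apply, smul_comm] }
    have hW := ih (fun i => c i.succ) (fun i => hc _) TW (LinearEquiv.refl F W) (fun _ => rfl)
    have : FiniteDimensional F W := by
      obtain ⟨m, T', ⟨e, -⟩, -⟩ := hW
      exact e.symm.finiteDimensional
    rw [List.ofFn_succ]
    have h5 : Coc (blk ((c 0).1 ^ (c 0).2)) := coc_blk hf
    have h6 : LinearMap.charpoly (blk ((c 0).1 ^ (c 0).2)) = (c 0).1 ^ (c 0).2 := charpoly_blk hf
    have h7 := decV_prod h5 h6 hW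
    refine DecV.sim (sim_symm ?_) h7
    obtain ⟨e, he⟩ := exists_split (fun i => Cyc (c i)) ψ (eps ((c 0).1 ^ (c 0).2))
    refine ⟨e, fun v => ?_⟩
    rw [he, he, hψ]
    refine Prod.ext ?_ ?_
    · exact eps_smul _ _
    · rfl

/-! ### merging and splitting -/

theorem dec_merge {f g : F[X]} (h : IsCoprime f g) {L : List F[X]} {m : ℕ} {T : End F (Fin m → F)}
    (hT : Dec (f :: g :: L) T) : Dec (f * g :: L) T := by
  obtain ⟨m₁, m₂, T₁, T₂, h1, h2, ⟨m₃, m₄, T₃, T₄, h3, h4, h5, h6⟩, h7⟩ := hT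
  have hc : Coc (T₁.prodMap T₃) := coc_prod h1 h3 (by rw [h2, h4]; exact h)
  have hp : LinearMap.charpoly (T₁.prodMap T₃) = f * g := by rw [LinearMap.charpoly_prodMap, h2, h4]
  refine DecV.dec (DecV.sim (sim_symm ?_) (decV_prod hc hp (Dec.decV h5)))
  exact sim_trans h7 (sim_trans (sim_prod (sim_refl _) h6) (sim_symm (sim_prodAssoc _ _ _)))

theorem dec_split {f g : F[X]} (hf : f.Monic) (hg : g.Monic) (h : IsCoprime f g) {L : List F[X]} {m : ℕ}
    {T : End F (Fin m → F)} (hT : Dec (f * g :: L) T) : Dec (f :: g :: L) T := by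
  obtain ⟨m₁, m₂, T₁, T₂, h1, h2, h3, h4⟩ := hT
  obtain ⟨A, hA, hAc⟩ := exists_coc hf rfl
  obtain ⟨B, hB, hBc⟩ := exists_coc hg rfl
  have hc : Coc (A.prodMap B) := coc_prod hA hB (by rw [hAc, hBc]; exact h)
  have hs : Sim T₁ (A.prodMap B) := sim_of_coc h1 hc (by rw [LinearMap.charpoly_prodMap, hAc, hBc, h2])
  refine DecV.dec (DecV.sim (sim_symm ?_) (decV_prod hA hAc (decV_prod hB hBc (Dec.decV h3))))
  exact sim_trans h4 (sim_trans (sim_prod hs (sim_refl _)) (sim_prodAssoc _ _ _))

theorem dec_sum {L : List F[X]} {m : ℕ} {T : End F (Fin m → F)} (hT : Dec L T) :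
    (L.map natDegree).sum = m := by
  induction L generalizing m with
  | nil => exact hT.symm
  | cons f L ih =>
    obtain ⟨m₁, m₂, T₁, T₂, h1, h2, h3, ⟨e, -⟩⟩ := hT
    have h5 := e.finrank_eq
    rw [finrank_fin_fun, finrank_prod, finrank_fin_fun, finrank_fin_fun] at h5
    rw [List.map_cons, List.sum_cons, ih h3, ← h2, LinearMap.charpoly_natDegree, finrank_fin_fun, h5]

/-- sum of the squares of the degrees -/
def sq (L : List F[X]) : ℕ := (L.map fun f => f.natDegree ^ 2).sum

theorem sq_le (L : List F[X]) : sq L ≤ (L.map natDegree).sum ^ 2 := by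
  induction L with
  | nil => simp [sq]
  | cons f L ih =>
    unfold sq at ih ⊢
    rw [List.map_cons, List.sum_cons, List.map_cons, List.sum_cons]
    nlinarith [Nat.zero_le (f.natDegree * (L.map natDegree).sum)]

theorem sq_cons (f : F[X]) (L : List F[X]) : sq (f :: L) = f.natDegree ^ 2 + sq L := by
  unfold sq
  rw [List.map_cons, List.sum_cons]

theorem sq_perm {L L' : List F[X]} (h : L.Perm L') : sq L = sq L' := (h.map _).sum_eq

theorem exists_perm_of_mem {α : Type*} {a : α} {L : List α} (h : a ∈ L) : ∃ L', L.Perm (a :: L') := by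
  obtain ⟨s, t, rfl⟩ := List.append_of_mem h
  exact ⟨s ++ t, List.perm_middle⟩

theorem exists_of_not_pairwise {α : Type*} {R : α → α → Prop} : ∀ {L : List α}, ¬ L.Pairwise R →
    ∃ a b L', L.Perm (a :: b :: L') ∧ ¬ R a b
  | [], h => absurd List.Pairwise.nil h
  | a :: L, h => by
    by_cases h1 : ∀ b ∈ L, R a b
    · have h2 : ¬ L.Pairwise R := fun h2 => h (List.pairwise_cons.2 ⟨h1, h2⟩)
      obtain ⟨b, c, L', h3, h4⟩ := exists_of_not_pairwise h2
      refine ⟨b, c, a :: L', ?_, h4⟩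
      exact (h3.cons a).trans ((List.Perm.swap _ _ _).trans ((List.Perm.swap _ _ _).cons b))
    · push Not at h1
      obtain ⟨b, hb, hab⟩ := h1
      obtain ⟨L', hL'⟩ := exists_perm_of_mem hb
      exact ⟨a, b, L', hL'.cons a, hab⟩

/-- two different monic quadratic polynomials with a common divisor -/
theorem exists_common_root {f g : F[X]} (hf : f.Monic) (hg : g.Monic) (hf2 : f.natDegree = 2)
    (hg2 : g.natDegree = 2) (hne : f ≠ g) (hc : ¬ IsCoprime f g) :
    ∃ l a b : F, f = (X - C l) * (X - C a) ∧ g = (X - C l) * (X - C b) ∧ a ≠ b := by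
  have h1 : ∃ p : F[X], Prime p ∧ p ∣ f ∧ p ∣ g := by
    by_contra hcon
    push Not at hcon
    exact hc (isCoprime_of_prime_dvd (fun h => hf.ne_zero h.1) hcon)
  obtain ⟨p, hp, hpf, hpg⟩ := h1
  have hp0 := hp.ne_zero
  have hle : p.natDegree ≤ 2 := hf2 ▸ natDegree_le_of_dvd hpf hf.ne_zero
  have hpos : 0 < p.natDegree := hp.irreducible.natDegree_pos
  have hone : p.natDegree = 1 := by
    by_contra h1
    have h2 : p.natDegree = 2 := by omega
    have e1 : Associated p f := associated_of_dvd_of_natDegree_le hpf hf.ne_zero (by omega)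
    have e2 : Associated p g := associated_of_dvd_of_natDegree_le hpg hg.ne_zero (by omega)
    exact hne (eq_of_monic_of_associated hf hg (e1.symm.trans e2))
  obtain ⟨l, hl⟩ := exists_root_of_degree_eq_one (degree_eq_iff_natDegree_eq_of_pos (by norm_num) |>.2 hone)
  have key : ∀ q : F[X], q.Monic → q.natDegree = 2 → p ∣ q → ∃ a : F, q = (X - C l) * (X - C a) := by
    intro q hq hq2 hpq
    obtain ⟨r, hr⟩ := (dvd_iff_isRoot.2 hl).trans hpq
    have hrm : r.Monic := (monic_X_sub_C l).of_mul_monic_left (hr ▸ hq)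
    have hrd : r.natDegree = 1 := by
      have := (monic_X_sub_C l).natDegree_mul hrm
      rw [← hr, hq2, natDegree_X_sub_C] at this
      omega
    refine ⟨-r.coeff 0, ?_⟩
    rw [hr, C_neg, sub_neg_eq_add, ← hrm.eq_X_add_C hrd]
  obtain ⟨a, ha⟩ := key f hf hf2 hpf
  obtain ⟨b, hb⟩ := key g hg hg2 hpg
  refine ⟨l, a, b, ha, hb, ?_⟩
  rintro rfl
  exact hne (ha.trans hb.symm)

/-- the conditions on the members -/
def Ok (L : List F[X]) : Prop := ∀ f ∈ L, f.Monic ∧ 1 ≤ f.natDegree

theorem Ok.perm {L L' : List F[X]} (h : L.Perm L') (hL : Ok L) : Ok L' := fun f hf => hL f (h.mem_iff.2 hf)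

theorem swap_step {f g : F[X]} {L : List F[X]} {m : ℕ} {T : End F (Fin m → F)} (hT : Dec (f :: g :: L) T)
    {l a b : F} (hf : f = (X - C l) * (X - C a)) (hg : g = (X - C l) * (X - C b)) (hab : a ≠ b) (hbl : b ≠ l) :
    Dec (((X - C b) * f) :: (X - C l) :: L) T := by
  have h1 : Dec (g :: f :: L) T := Dec.perm (List.Perm.swap _ _ _) hT
  rw [hg] at h1
  have h2 : Dec ((X - C l) :: (X - C b) :: f :: L) T :=
    dec_split (monic_X_sub_C l) (monic_X_sub_C b) (isCoprime_X_sub_C_of_isUnit_sub (by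
      rw [isUnit_iff_ne_zero, sub_ne_zero]; exact hbl.symm)) h1
  have h3 : Dec ((X - C b) :: f :: (X - C l) :: L) T := by
    refine Dec.perm ?_ h2
    exact (List.Perm.swap _ _ _).trans ((List.Perm.swap _ _ _).cons _)
  refine dec_merge ?_ h3
  rw [hf]
  refine IsCoprime.mul_right ?_ ?_
  · exact isCoprime_X_sub_C_of_isUnit_sub (by rw [isUnit_iff_ne_zero, sub_ne_zero]; exact hbl)
  · exact isCoprime_X_sub_C_of_isUnit_sub (by rw [isUnit_iff_ne_zero, sub_ne_zero]; exact hab.symm)

theorem exists_best {m : ℕ} {T : End F (Fin m → F)} : ∀ (n : ℕ) (L : List F[X]), Dec L T → Ok L →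
    (m ^ 2 + 1) * L.length + (m ^ 2 - sq L) = n →
    ∃ L : List F[X], Dec L T ∧ Ok L ∧ L.Pairwise (fun f g => ¬ IsCoprime f g) ∧
      (∀ f ∈ L, ∀ g ∈ L, f.natDegree = 2 → g.natDegree = 2 → f = g) := by
  intro n
  induction n using Nat.strong_induction_on with
  | _ n ih =>
    intro L hT hL hn
    by_cases hbad : ∃ f g L', L.Perm (f :: g :: L') ∧ IsCoprime f g
    · obtain ⟨f, g, L', hp, hc⟩ := hbad
      have hT' := dec_merge hc (Dec.perm hp hT)
      have hL' := Ok.perm hp hL
      have hf := hL' f List.mem_cons_self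
      have hg := hL' g (List.mem_cons_of_mem _ List.mem_cons_self)
      have hO : Ok (f * g :: L') := by
        intro q hq
        rcases List.mem_cons.1 hq with rfl | hq
        · exact ⟨hf.1.mul hg.1, by rw [hf.1.natDegree_mul hg.1]; omega⟩
        · exact hL' q (List.mem_cons_of_mem _ (List.mem_cons_of_mem _ hq))
      refine ih _ ?_ (f * g :: L') hT' hO rfl
      rw [← hn, hp.length_eq, List.length_cons, List.length_cons, List.length_cons]
      have : m ^ 2 - sq (f * g :: L') ≤ m ^ 2 := Nat.sub_le _ _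
      nlinarith [Nat.zero_le (m ^ 2 - sq L)]
    · have hnc : ∀ f g L', L.Perm (f :: g :: L') → ¬ IsCoprime f g := fun f g L' hp hc => hbad ⟨f, g, L', hp, hc⟩
      by_cases hbad2 : ∃ f ∈ L, ∃ g ∈ L, f.natDegree = 2 ∧ g.natDegree = 2 ∧ f ≠ g
      · obtain ⟨f, hf, g, hg, hf2, hg2, hne⟩ := hbad2
        obtain ⟨L₁, h1⟩ := exists_perm_of_mem hf
        have hg' : g ∈ L₁ := by
          rcases List.mem_cons.1 (h1.mem_iff.1 hg) with e | h
          · exact absurd e.symm hne
          · exact h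
        obtain ⟨L₂, h2⟩ := exists_perm_of_mem hg'
        have hp : L.Perm (f :: g :: L₂) := h1.trans (h2.cons f)
        have hp' : L.Perm (g :: f :: L₂) := hp.trans (List.Perm.swap _ _ _)
        obtain ⟨l, a, b, hfe, hge, hab⟩ := exists_common_root (hL f hf).1 (hL g hg).1 hf2 hg2 hne (hnc f g L₂ hp)
        have key : ∃ (c : F) (q : F[X]), q.Monic ∧ q.natDegree = 2 ∧ Dec (((X - C c) * q) :: (X - C l) :: L₂) T := by
          by_cases hbl : b = l
          · have hal : a ≠ l := fun e => hab (e.trans hbl.symm)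
            exact ⟨a, g, (hL g hg).1, hg2, swap_step (Dec.perm hp' hT) hge hfe hab.symm hal⟩
          · exact ⟨b, f, (hL f hf).1, hf2, swap_step (Dec.perm hp hT) hfe hge hab hbl⟩
        obtain ⟨c, q, hq, hq2, hT'⟩ := key
        have hd3 : ((X - C c) * q).natDegree = 3 := by
          rw [(monic_X_sub_C c).natDegree_mul hq, natDegree_X_sub_C, hq2]
        have hO : Ok (((X - C c) * q) :: (X - C l) :: L₂) := by
          intro r hr
          rcases List.mem_cons.1 hr with rfl | hr
          · exact ⟨(monic_X_sub_C c).mul hq, by omega⟩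
          · rcases List.mem_cons.1 hr with rfl | hr
            · exact ⟨monic_X_sub_C l, by rw [natDegree_X_sub_C]⟩
            · exact (Ok.perm hp hL) r (List.mem_cons_of_mem _ (List.mem_cons_of_mem _ hr))
        refine ih _ ?_ _ hT' hO rfl
        have e1 := sq_perm hp
        have e2 : sq (((X - C c) * q) :: (X - C l) :: L₂) = sq L + 2 := by
          rw [sq_cons, sq_cons, hd3, natDegree_X_sub_C, e1, sq_cons, sq_cons, hf2, hg2]
          ring
        have e3 : sq (((X - C c) * q) :: (X - C l) :: L₂) ≤ m ^ 2 := by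
          have := sq_le (((X - C c) * q) :: (X - C l) :: L₂)
          rwa [dec_sum hT'] at this
        have e4 : (((X - C c) * q) :: (X - C l) :: L₂).length = L.length := by
          rw [hp.length_eq]
          rfl
        rw [← hn, e4]
        omega
      · refine ⟨L, hT, hL, ?_, ?_⟩
        · by_contra hnp
          obtain ⟨a, b, L', hp, hab⟩ := exists_of_not_pairwise hnp
          exact hnc a b L' hp (not_not.1 hab)
        · intro f hf g hg hf2 hg2
          by_contra hne
          exact hbad2 ⟨f, hf, g, hg, hf2, hg2, hne⟩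

theorem exists_dec {m : ℕ} (T : End F (Fin m → F)) : ∃ L : List F[X], Dec L T ∧
    (∀ f ∈ L, f.Monic ∧ 1 ≤ f.natDegree) ∧ L.Pairwise (fun f g => ¬ IsCoprime f g) ∧
    (∀ f ∈ L, ∀ g ∈ L, f.natDegree = 2 → g.natDegree = 2 → f = g) := by
  obtain ⟨M, hM, n, c, hc, ψ, hψ⟩ := Cfsg.Agent.H171.ElemDiv.exists_isED T
  have hgood : ∀ i, (c i).1.Monic ∧ Irreducible (c i).1 ∧ 1 ≤ (c i).2 := by
    intro i
    refine hM (c i) ?_
    rw [← hc]
    exact Multiset.mem_map_of_mem c (Finset.mem_univ i)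
  have h1 := DecV.dec (decV_family n c (fun i => (hgood i).1) T ψ hψ)
  refine exists_best _ _ h1 ?_ rfl
  intro f hf
  obtain ⟨i, rfl⟩ := (List.mem_ofFn' _ _).1 hf
  obtain ⟨h2, h3, h4⟩ := hgood i
  refine ⟨h2.pow _, ?_⟩
  rw [h2.natDegree_pow]
  exact Nat.mul_pos h4 h3.natDegree_pos

end Cfsg.Agent.H269.CovDec
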