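import Cfsg.Agent.H506.NRowDef
import Cfsg.Agent.Lib.PSolvable
import Cfsg.Agent.PLocal.PSolvable

/-!
# S4307, row R4: alternating groups

`row_alt`: `¬ NCtx q T` for `T ≃* alternatingGroup (Fin n)`, `n ≥ 8` (in fact `n ≥ 6`), and
`row_a7`: `¬ NCtx' q T` for `T ≃* alternatingGroup (Fin 7)`, `q = 5` or `7`.

`NCtx.map`, `NCtx'.map`: transport along isomorphisms.
-/

set_option autoImplicit false

namespace Cfsg.Agent.H269.NRowAlt

open Subgroup Cfsg.Agent.H506.NRow

section transport

universe u v

variable {q : ℕ} {T : Type u} {U : Type v} [Group T] [Group U]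

theorem nice_map [Fact q.Prime] (e : T ≃* U) {x : T} (h : Nice q x) : Nice q (e x) := by
  obtain ⟨h1, Q, hQx, hQ⟩ := h
  refine ⟨?_, ?_⟩
  · refine (Cfsg.Agent.PLocal.PSolvable.isPSolvable_congr ?_).1 h1
    exact ((centralizer ({x} : Set T)).equivMapOfInjective e.toMonoidHom e.injective).trans
      (MulEquiv.subgroupCongr (map_centralizer e x))
  · have hr : (Q : Subgroup T) ≤ e.symm.toMonoidHom.range := fun y _ => ⟨e y, e.symm_apply_apply y⟩
    have hm : ∀ y, y ∈ Q.comapOfInjective e.symm.toMonoidHom e.symm.injective hr ↔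
        e.symm y ∈ Q := fun y => Iff.rfl
    refine ⟨Q.comapOfInjective e.symm.toMonoidHom e.symm.injective hr, ?_, ?_⟩
    · intro y hy
      rw [hm] at hy
      have := congrArg e (hQx _ hy)
      simpa using this
    · intro f hf hfq hqf M hM hMx hMQ y hy m hm'
      rw [hm] at hy
      have h2 := hQ f hf hfq hqf (M.comap e.toMonoidHom)
        (hM.comap_of_injective e.toMonoidHom e.injective) ?_ ?_ (e.symm y) hy (e.symm m) ?_
      · have := congrArg e h2
        simpa using this
      · intro z hz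
        have h3 := hMx hz
        rw [mem_centralizer_singleton_iff] at h3 ⊢
        apply e.injective
        simpa using h3
      · intro z hz
        rw [mem_normalizer_iff]
        intro w
        have h3 := mem_normalizer_iff.1 (hMQ (e z) ((hm _).2 (by simpa using hz))) (e w)
        rw [← map_mul, ← map_inv, ← map_mul] at h3
        exact h3
      · change e (e.symm m) ∈ M
        rwa [e.apply_symm_apply]

theorem NCtx'.map (e : T ≃* U) (h : NCtx' q T) : NCtx' q U := by
  have hF : Fact q.Prime := ⟨h.prime⟩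
  refine ⟨h.prime, h.odd, ?_, ?_, ?_⟩
  · rw [← Nat.card_congr e.toEquiv]
    exact h.dvd
  · intro Q x hx y hy
    have hr : (Q : Subgroup U) ≤ e.toMonoidHom.range := fun y _ => ⟨e.symm y, e.apply_symm_apply y⟩
    have h1 := h.ab (Q.comapOfInjective e.toMonoidHom e.injective hr) (e.symm x)
      (show e (e.symm x) ∈ Q by rwa [e.apply_symm_apply]) (e.symm y)
      (show e (e.symm y) ∈ Q by rwa [e.apply_symm_apply])
    have := congrArg e h1
    simpa using this
  · intro f hf hf2 M hM hMc
    have hnc : ¬ IsCyclic (M.comap e.toMonoidHom) := by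
      intro hc
      apply hMc
      have h3 : (M.comap e.toMonoidHom).map e.toMonoidHom = M :=
        map_comap_eq_self fun y _ => ⟨e.symm y, e.apply_symm_apply y⟩
      exact isCyclic_of_surjective _
        (((M.comap e.toMonoidHom).equivMapOfInjective e.toMonoidHom e.injective).trans
          (MulEquiv.subgroupCongr h3)).surjective
    obtain ⟨x, hx, h1, h2⟩ := h.noncyc f hf hf2 (M.comap e.toMonoidHom)
      (hM.comap_of_injective e.toMonoidHom e.injective) hnc
    exact ⟨e x, hx, h1 ▸ orderOf_injective e.toMonoidHom e.injective x, nice_map e h2⟩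

theorem NCtx.map (e : T ≃* U) (h : NCtx q T) : NCtx q U := by
  have hF : Fact q.Prime := ⟨h.prime⟩
  have h1 := NCtx'.map e h.weak
  refine ⟨h1.prime, h1.odd, h1.dvd, h1.ab, h1.noncyc, ?_⟩
  obtain ⟨x, h2, h3⟩ := h.inv
  exact ⟨e x, by rw [← h2]; exact orderOf_injective e.toMonoidHom e.injective x, nice_map e h3⟩

end transport

section general

variable {q : ℕ} {T : Type*} [Group T] [Finite T]

/-- The centralizer of a nice element has order divisible by the `q`-part of `|T|`. -/
theorem Nice.dvd [Fact q.Prime] {x : T} (h : Nice q x) :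
    q ^ (Nat.card T).factorization q ∣ Nat.card (centralizer ({x} : Set T)) := by
  obtain ⟨-, Q, hQx, -⟩ := h
  rw [← Q.card_eq_multiplicity]
  apply card_dvd_of_le
  intro y hy
  rw [mem_centralizer_singleton_iff]
  exact hQx y hy

omit [Finite T] in
/-- A simple `p`-solvable group is a `p`-group or a `p'`-group. -/
theorem simple_pSolvable [IsSimpleGroup T] [Fact q.Prime] (h : Cfsg.IsPSolvable q T) :
    (∃ m : ℕ, Nat.card T = q ^ m) ∨ (Nat.card T).Coprime q := by
  obtain ⟨L, hL, h1, -, h2⟩ := Cfsg.Agent.Lib.PSolvable.sep_of_pSolvable q h ⊥ ⊤ inferInstance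
    inferInstance bot_lt_top
  have h3 : L = ⊤ := hL.eq_bot_or_eq_top.resolve_left (ne_of_gt h1)
  rw [h3, relIndex_bot_left, card_top] at h2
  exact h2

end general

/-- Two commuting elements of order 3 which generate a noncyclic group. -/
theorem exists_noncyc {G : Type*} [Group G] {a b : G} (hab : a * b = b * a) (ha : a ^ 3 = 1)
    (hb : b ^ 3 = 1) (ha1 : a ≠ 1) (hb1 : b ∉ zpowers a) :
    ∃ M : Subgroup G, IsPGroup 3 M ∧ ¬ IsCyclic M ∧ ∀ x ∈ M, ∃ i j : ℤ, x = a ^ i * b ^ j := by
  have hc : Commute a b := hab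
  let M : Subgroup G :=
    { carrier := {x | ∃ i j : ℤ, x = a ^ i * b ^ j}
      one_mem' := ⟨0, 0, by simp⟩
      mul_mem' := by
        rintro _ _ ⟨i, j, rfl⟩ ⟨k, l, rfl⟩
        refine ⟨i + k, j + l, ?_⟩
        rw [zpow_add, zpow_add]
        have : b ^ j * a ^ k = a ^ k * b ^ j := ((hc.zpow_zpow k j).eq).symm
        calc a ^ i * b ^ j * (a ^ k * b ^ l) = a ^ i * (b ^ j * a ^ k) * b ^ l := by group
          _ = _ := by rw [this]; group
      inv_mem' := by
        rintro _ ⟨i, j, rfl⟩
        refine ⟨-i, -j, ?_⟩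
        rw [mul_inv_rev, ← zpow_neg, ← zpow_neg]
        exact ((hc.zpow_zpow (-i) (-j)).eq).symm }
  have hM : ∀ x, x ∈ M ↔ ∃ i j : ℤ, x = a ^ i * b ^ j := fun x => Iff.rfl
  have h3 : ∀ x ∈ M, x ^ 3 = 1 := by
    rintro _ ⟨i, j, rfl⟩
    rw [(hc.zpow_zpow i j).mul_pow, ← zpow_natCast, ← zpow_natCast, ← zpow_mul, ← zpow_mul,
      mul_comm i, mul_comm j, zpow_mul, zpow_mul, zpow_natCast, zpow_natCast, ha, hb, one_zpow,
      one_zpow, one_mul]
  refine ⟨M, ?_, ?_, fun x hx => hx⟩
  · intro x
    exact ⟨1, Subtype.ext (by rw [pow_one]; exact h3 x.1 x.2)⟩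
  · intro hcyc
    obtain ⟨g, hg⟩ := hcyc.exists_generator
    have hg3 : (g : G) ^ 3 = 1 := h3 g.1 g.2
    have h1 : ∀ y ∈ M, y ∈ zpowers (g : G) := by
      intro y hy
      obtain ⟨k, hk⟩ := mem_zpowers_iff.1 (hg ⟨y, hy⟩)
      exact mem_zpowers_iff.2 ⟨k, congrArg Subtype.val hk⟩
    have haM : a ∈ zpowers (g : G) := h1 a ⟨1, 0, by simp⟩
    have hbM : b ∈ zpowers (g : G) := h1 b ⟨0, 1, by simp⟩
    have h4 : zpowers a ≤ zpowers (g : G) := by rwa [zpowers_le]
    have h5 : Nat.card (zpowers a) = 3 := by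
      rw [Nat.card_zpowers]
      exact orderOf_eq_prime ha ha1
    have h6 : Nat.card (zpowers (g : G)) ≤ 3 := by
      rw [Nat.card_zpowers]
      exact orderOf_le_of_pow_eq_one (by norm_num) hg3
    have hfin : Finite (zpowers (g : G)) := by
      refine Set.Finite.to_subtype (finite_zpowers.2 ?_)
      exact isOfFinOrder_iff_pow_eq_one.2 ⟨3, by norm_num, hg3⟩
    have h7 := eq_of_le_of_card_ge h4 (by rw [h5]; exact h6)
    exact hb1 (h7 ▸ hbM)

section perm

open Equiv Equiv.Perm

/-- The centralizer of an element of prime order. -/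
theorem card_cent {α : Type*} [Fintype α] [DecidableEq α] (x : Perm α) {f : ℕ} (hf : f.Prime)
    (hx : orderOf x = f) : ∃ k, 1 ≤ k ∧ x.cycleType = Multiset.replicate k f ∧
      x.support.card = f * k ∧
      Nat.card (centralizer {x}) = (Fintype.card α - f * k).factorial * f ^ k * k.factorial := by
  obtain ⟨k, hk⟩ := cycleType_prime_order (σ := x) (by rw [hx]; exact hf)
  rw [hx] at hk
  refine ⟨k + 1, by omega, hk, ?_, ?_⟩
  · rw [← sum_cycleType, hk, Multiset.sum_replicate, smul_eq_mul, mul_comm]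
  · rw [nat_card_centralizer, hk, Multiset.sum_replicate, Multiset.prod_replicate,
      Multiset.toFinset_replicate, if_neg (by omega), Finset.prod_singleton,
      Multiset.count_replicate_self, smul_eq_mul, mul_comm (k + 1) f]

theorem cent_dvd {n : ℕ} (x : alternatingGroup (Fin n)) :
    Nat.card (centralizer ({x} : Set (alternatingGroup (Fin n)))) ∣
      Nat.card (centralizer ({(x : Perm (Fin n))} : Set (Perm (Fin n)))) := by
  have h1 : Nat.card ((centralizer ({x} : Set (alternatingGroup (Fin n)))).map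
      (alternatingGroup (Fin n)).subtype) =
      Nat.card (centralizer ({x} : Set (alternatingGroup (Fin n)))) :=
    card_map_of_injective (subtype_injective _)
  rw [← h1]
  apply card_dvd_of_le
  rintro _ ⟨y, hy, rfl⟩
  have hy' : y * x = x * y := mem_centralizer_singleton_iff.1 hy
  exact mem_centralizer_singleton_iff.2 (congrArg Subtype.val hy')

/-- A nonabelian alternating group of degree at least `q` is not `q`-solvable. -/
theorem alt_not_pSolvable {α : Type*} [Fintype α] [DecidableEq α] {q : ℕ} (hq : q.Prime)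
    (h5 : 5 ≤ q) (hα : q ≤ Fintype.card α) : ¬ Cfsg.IsPSolvable q (alternatingGroup α) := by
  intro h
  have hF : Fact q.Prime := ⟨hq⟩
  have hs : IsSimpleGroup (alternatingGroup α) :=
    alternatingGroup.isSimpleGroup (by rw [Nat.card_eq_fintype_card]; omega)
  have hnt : Nontrivial α := by
    rw [← Fintype.one_lt_card_iff_nontrivial]
    omega
  have hcard : 2 * Nat.card (alternatingGroup α) = (Fintype.card α).factorial := by
    rw [Nat.card_eq_fintype_card, two_mul_card_alternatingGroup, Fintype.card_perm]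
  have hq1 : q ∣ Nat.card (alternatingGroup α) := by
    have h1 : q ∣ 2 * Nat.card (alternatingGroup α) := by
      rw [hcard]
      exact Nat.dvd_factorial hq.pos hα
    exact (hq.dvd_mul.1 h1).resolve_left fun h2 => by
      have := Nat.le_of_dvd (by norm_num) h2
      omega
  rcases simple_pSolvable (q := q) h with ⟨m, hm⟩ | h1
  · have h2 : 2 ∣ Nat.card (alternatingGroup α) := by
      have h4 : 2 * 2 ∣ 2 * Nat.card (alternatingGroup α) := by
        rw [hcard]
        exact (show 2 * 2 ∣ Nat.factorial 4 by decide).trans (Nat.factorial_dvd_factorial (by omega))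
      exact (Nat.mul_dvd_mul_iff_left (by norm_num)).1 h4
    rw [hm] at h2
    have h3 := (Nat.prime_dvd_prime_iff_eq Nat.prime_two hq).1
      (Nat.prime_two.dvd_of_dvd_pow h2)
    omega
  · exact hq.one_lt.ne' (Nat.eq_one_of_dvd_coprimes h1 hq1 dvd_rfl)

/-- The case `q ≥ 5`. -/
theorem ge5 {n q : ℕ} (hn : 6 ≤ n) (hq5 : 5 ≤ q) : ¬ NCtx' q (alternatingGroup (Fin n)) := by
  intro h
  have hF : Fact q.Prime := ⟨h.prime⟩
  -- the group `M`
  let i0 : Fin n := ⟨0, by omega⟩
  let i1 : Fin n := ⟨1, by omega⟩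
  let i2 : Fin n := ⟨2, by omega⟩
  let i3 : Fin n := ⟨3, by omega⟩
  let i4 : Fin n := ⟨4, by omega⟩
  let i5 : Fin n := ⟨5, by omega⟩
  have ha : IsThreeCycle (swap i0 i1 * swap i0 i2) :=
    isThreeCycle_swap_mul_swap_same (by simp [i0, i1]) (by simp [i0, i2]) (by simp [i1, i2])
  have hb : IsThreeCycle (swap i3 i4 * swap i3 i5) :=
    isThreeCycle_swap_mul_swap_same (by simp [i3, i4]) (by simp [i3, i5]) (by simp [i4, i5])
  have hd : Disjoint (swap i0 i1 * swap i0 i2) (swap i3 i4 * swap i3 i5) := by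
    intro x
    have hne : ∀ (m : ℕ) (hm : m < n), x.val ≠ m → x ≠ ⟨m, hm⟩ := fun m hm h1 h2 => h1 (by rw [h2])
    rcases Nat.lt_or_ge x.val 3 with hx | hx
    · right
      have h3 : x ≠ i3 := hne 3 _ (by omega)
      rw [Perm.mul_apply, swap_apply_of_ne_of_ne h3 (hne 5 _ (by omega)),
        swap_apply_of_ne_of_ne h3 (hne 4 _ (by omega))]
    · left
      have h3 : x ≠ i0 := hne 0 _ (by omega)
      rw [Perm.mul_apply, swap_apply_of_ne_of_ne h3 (hne 2 _ (by omega)),
        swap_apply_of_ne_of_ne h3 (hne 1 _ (by omega))]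
  let a : alternatingGroup (Fin n) := ⟨_, ha.mem_alternatingGroup⟩
  let b : alternatingGroup (Fin n) := ⟨_, hb.mem_alternatingGroup⟩
  have ha3 : a ^ 3 = 1 := by
    apply Subtype.ext
    change (swap i0 i1 * swap i0 i2) ^ 3 = 1
    rw [← ha.orderOf, pow_orderOf_eq_one]
  have hb3 : b ^ 3 = 1 := by
    apply Subtype.ext
    change (swap i3 i4 * swap i3 i5) ^ 3 = 1
    rw [← hb.orderOf, pow_orderOf_eq_one]
  have ha1 : a ≠ 1 := by
    intro h1
    have h2 : swap i0 i1 * swap i0 i2 = 1 := congrArg Subtype.val h1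
    have h3 := ha.card_support
    rw [h2] at h3
    simp at h3
  have hb1 : b ∉ zpowers a := by
    intro h1
    obtain ⟨k, hk⟩ := mem_zpowers_iff.1 h1
    have h2 : (swap i0 i1 * swap i0 i2) ^ k = swap i3 i4 * swap i3 i5 := congrArg Subtype.val hk
    have h3 : Disjoint ((swap i0 i1 * swap i0 i2) ^ k) (swap i3 i4 * swap i3 i5) :=
      hd.zpow_disjoint_zpow k 1
    rw [h2, disjoint_refl_iff] at h3
    have h4 := hb.card_support
    rw [h3] at h4
    simp at h4
  obtain ⟨M, hM, hMc, hMx⟩ := exists_noncyc (Subtype.ext hd.commute.eq) ha3 hb3 ha1 hb1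
  obtain ⟨x, hxM, hx3, hxN⟩ := h.noncyc 3 Nat.prime_three (by norm_num) M hM hMc
  have hsupp : (x : Perm (Fin n)).support.card ≤ 6 := by
    obtain ⟨i, j, rfl⟩ := hMx x hxM
    calc _ ≤ ((a : Perm (Fin n)).support ∪ (b : Perm (Fin n)).support).card := by
          apply Finset.card_le_card
          refine (support_mul_le _ _).trans ?_
          apply sup_le_sup
          · exact support_zpow_le _ _
          · exact support_zpow_le _ _
      _ ≤ 3 + 3 := (Finset.card_union_le _ _).trans
          (Nat.add_le_add ha.card_support.le hb.card_support.le)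
  obtain ⟨k, hk1, hkt, hks, hkc⟩ := card_cent (x : Perm (Fin n)) Nat.prime_three
    (hx3 ▸ orderOf_injective (alternatingGroup (Fin n)).subtype (subtype_injective _) x)
  have hk2 : k ≤ 2 := by omega
  have hqc : q ∣ (n - 3 * k).factorial := by
    have h1 : q ∣ Nat.card (centralizer ({x} : Set (alternatingGroup (Fin n)))) := by
      refine (dvd_pow_self q ?_).trans (Nice.dvd hxN)
      have := (h.prime.dvd_iff_one_le_factorization Nat.card_pos.ne').1 h.dvd
      omega
    have h2 := h1.trans (cent_dvd x)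
    rw [hkc, Fintype.card_fin, h.prime.dvd_mul, h.prime.dvd_mul] at h2
    rcases h2 with (h2 | h2) | h2
    · exact h2
    · have := Nat.le_of_dvd (by norm_num) (h.prime.dvd_of_dvd_pow h2)
      omega
    · have := (h.prime.dvd_factorial).1 h2
      omega
  have hqn : q ≤ n - 3 * k := (h.prime.dvd_factorial).1 hqc
  refine alt_not_pSolvable (α := ((x : Perm (Fin n)).supportᶜ : Finset (Fin n))) h.prime hq5 ?_ ?_
  · rw [Fintype.card_coe, Finset.card_compl, Fintype.card_fin, hks]
    exact hqn
  · refine Cfsg.Agent.PLocal.PSolvable.isPSolvable_of_injective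
      ((alternatingGroup.ofSubtype _).codRestrict
        (centralizer ({x} : Set (alternatingGroup (Fin n)))) ?_) ?_ hxN.1
    · intro g
      rw [mem_centralizer_singleton_iff]
      apply Subtype.ext
      have h1 : Disjoint ((alternatingGroup.ofSubtype _ g : alternatingGroup (Fin n)) :
          Perm (Fin n)) (x : Perm (Fin n)) := by
        rw [disjoint_iff_disjoint_support]
        have h2 := (alternatingGroup.mem_range_ofSubtype_iff _ _).1 ⟨g, rfl⟩
        rw [Finset.disjoint_left]
        intro i hi hi'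
        exact (Finset.mem_compl.1 (h2 hi)) hi'
      exact h1.commute.eq
    · intro g g' hgg
      exact alternatingGroup.ofSubtype_injective (congrArg Subtype.val hgg)

/-- `3 k!` divides `(2k)!` for `k ≥ 2`. -/
theorem three_mul_dvd {k : ℕ} (hk : 2 ≤ k) : 3 * k.factorial ∣ (2 * k).factorial := by
  rcases Nat.lt_or_ge k 3 with h | h
  · have : k = 2 := by omega
    subst this
    decide
  · have h1 : k.factorial * k.factorial ∣ (k + k).factorial :=
      Nat.factorial_mul_factorial_dvd_factorial_add k k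
    rw [two_mul]
    exact (Nat.mul_dvd_mul_right ((Nat.prime_three.dvd_factorial).2 h) _).trans h1

/-- The case `q = 3`. -/
theorem eq3 {n : ℕ} (hn : 4 ≤ n) : ¬ NCtx 3 (alternatingGroup (Fin n)) := by
  intro h
  have hF : Fact (Nat.Prime 3) := ⟨Nat.prime_three⟩
  obtain ⟨x, hx2, hxN⟩ := h.inv
  obtain ⟨k, hk1, hkt, hks, hkc⟩ := card_cent (x : Perm (Fin n)) Nat.prime_two
    (hx2 ▸ orderOf_injective (alternatingGroup (Fin n)).subtype (subtype_injective _) x)
  have hnt : Nontrivial (Fin n) := by
    rw [Fin.nontrivial_iff_two_le]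
    omega
  -- `k` is even
  have hk2 : 2 ≤ k := by
    by_contra hcon
    have hk : k = 1 := by omega
    have h1 : sign (x : Perm (Fin n)) = 1 := mem_alternatingGroup.1 x.2
    rw [sign_of_cycleType, hkt, hk] at h1
    simp only [Multiset.replicate_one, Multiset.sum_singleton, Multiset.card_singleton] at h1
    exact absurd h1 (by decide)
  have hkn : 2 * k ≤ n := by
    rw [← hks]
    exact (Finset.card_le_univ _).trans (by simp)
  have hcard : 2 * Nat.card (alternatingGroup (Fin n)) = n.factorial := by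
    rw [Nat.card_eq_fintype_card, two_mul_card_alternatingGroup, Fintype.card_perm,
      Fintype.card_fin]
  -- the 3-part of `n!` divides `(n - 2k)! k!`
  have h1 : 3 ^ (n.factorial).factorization 3 ∣ (n - 2 * k).factorial * k.factorial := by
    have h2 := (Nice.dvd hxN).trans (cent_dvd x)
    have h3 : (n.factorial).factorization 3 =
        (Nat.card (alternatingGroup (Fin n))).factorization 3 := by
      rw [← hcard, Nat.factorization_mul (by norm_num) Nat.card_pos.ne']
      simp [Nat.prime_two.factorization]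
    rw [hkc, Fintype.card_fin, mul_assoc, mul_comm (2 ^ k), ← mul_assoc, ← h3] at h2
    refine Nat.Coprime.dvd_of_dvd_mul_right ?_ h2
    exact Nat.Coprime.pow _ _ (by norm_num)
  have h2 : 3 * ((n - 2 * k).factorial * k.factorial) ∣ n.factorial := by
    have h3 : (n - 2 * k).factorial * (2 * k).factorial ∣ (n - 2 * k + 2 * k).factorial :=
      Nat.factorial_mul_factorial_dvd_factorial_add _ _
    rw [Nat.sub_add_cancel hkn] at h3
    refine Dvd.dvd.trans ?_ h3
    rw [← mul_assoc, mul_comm 3, mul_assoc]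
    exact Nat.mul_dvd_mul_left _ (three_mul_dvd hk2)
  have h3 : 3 ^ ((n.factorial).factorization 3 + 1) ∣ n.factorial := by
    rw [pow_succ, mul_comm]
    exact (Nat.mul_dvd_mul_left 3 h1).trans h2
  have h4 := (Nat.prime_three.pow_dvd_iff_le_factorization (Nat.factorial_ne_zero n)).1 h3
  omega

end perm

/-- **Row R4, alternating groups.** -/
theorem row_alt {n q : ℕ} (hn : 6 ≤ n) {T : Type*} [Group T]
    (e : T ≃* alternatingGroup (Fin n)) : ¬ NCtx q T := by
  intro h
  have h1 := NCtx.map e h
  have h2 : q ≠ 0 := h.prime.ne_zero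
  have h3 : q ≠ 1 := h.prime.ne_one
  have h4 := h.odd
  have h5 : q ≠ 4 := by
    rintro rfl
    exact absurd h.prime (by norm_num)
  rcases Nat.lt_or_ge q 5 with h6 | h6
  · have : q = 3 := by omega
    subst this
    exact eq3 (by omega) h1
  · exact ge5 hn h6 h1.weak

theorem nrow_alt {n q : ℕ} (hn : 6 ≤ n) {T : Type*} [Group T]
    (e : T ≃* alternatingGroup (Fin n)) : NRow q T := row_alt hn e

/-- Alternating groups and `q ≥ 5`, without the condition on involutions. -/
theorem row_alt' {n q : ℕ} (hn : 6 ≤ n) (hq : 5 ≤ q) {T : Type*} [Group T]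
    (e : T ≃* alternatingGroup (Fin n)) : ¬ NCtx' q T :=
  fun h => ge5 hn hq (NCtx'.map e h)

/-- **Row R4, `A₇`.** -/
theorem row_a7 {q : ℕ} (hq : q = 5 ∨ q = 7) {T : Type*} [Group T]
    (e : T ≃* alternatingGroup (Fin 7)) : ¬ NCtx' q T :=
  row_alt' (by norm_num) (by omega) e

end Cfsg.Agent.H269.NRowAlt
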