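import Cfsg.Agent.H383.Cube.Basic
import Cfsg.Agent.H540.EngG
import Cfsg.Agent.H898.J3Cent
import Cfsg.Agent.KFacts.QMinus

/-!
# The cube bound for `J₃` (helper269, for S5721/S5718)

`k(J₃) ≤ |C(x)| + 17 + 19 + |J₃| / (2·17·19)² ≤ 192 + 17 + 19 + 120 = 348 < |J₃|^(1/3)`, with `x` of order 4.
-/

set_option autoImplicit false

namespace Cfsg.Agent.H269.CubeJ3

open Cfsg Cfsg.Spor Subgroup
open Cfsg.Agent.J2Type.Model Cfsg.Agent.J2Type.CStruct Cfsg.Agent.J3Type.OneClass
open Cfsg.Agent.H383.Cube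

universe u

variable {K : Type u} [Group K]

/-- an unordered pair of different indices -/
def pr (n : Fin 10) : Fin 5 × Fin 5 :=
  (![(0, 1), (0, 2), (0, 3), (0, 4), (1, 2), (1, 3), (1, 4), (2, 3), (2, 4), (3, 4)] : Fin 10 → Fin 5 × Fin 5) n

theorem pr_sigma : ∀ n : Fin 10, ∃ σ : Equiv.Perm (Fin 5), Equiv.Perm.sign σ = 1 ∧ σ 0 = (pr n).1 ∧ σ 1 = (pr n).2 := by
  decide +kernel

theorem pr_inj : ∀ m n : Fin 10, rr (pr m).1 (pr m).2 = rr (pr n).1 (pr n).2 → m = n := by
  decide +kernel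

/-- an element of order 4 with a small centralizer -/
theorem exists_four [Finite K] {t : K} (h : HasModel t) :
    ∃ x : K, orderOf x = 2 ^ 2 ∧ Nat.card (centralizer ({x} : Set K)) ≤ 192 := by
  obtain ⟨ht, hc, Q, v, ρ, M⟩ := h
  have hx2 : (v 0 * v 1) * (v 0 * v 1) = zc t := by
    have h1 := M.v_anti 0 1 (by decide)
    calc (v 0 * v 1) * (v 0 * v 1) = (zc t * (v 1 * v 0)) * (v 0 * v 1) := by rw [← h1]
      _ = zc t * (v 1 * (v 0 * v 0) * v 1) := by group
      _ = zc t := by rw [M.v_sq, mul_one, M.v_sq, mul_one]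
  set x : centralizer ({t} : Set K) := v 0 * v 1 with hx
  have hx2' : (x : K) * x = t := congrArg Subtype.val hx2
  refine ⟨x, ?_, ?_⟩
  · refine orderOf_eq_prime_pow ?_ ?_
    · rw [pow_one, pow_two, hx2']
      rintro rfl
      rw [orderOf_one] at ht
      exact absurd ht (by norm_num)
    · rw [show (2 : ℕ) ^ (1 + 1) = 2 * 2 by norm_num, pow_mul, pow_two (x : K), hx2', ← ht, pow_orderOf_eq_one]
  · -- the centralizer is contained in `C(t)`
    have hle : ∀ y ∈ centralizer ({(x : K)} : Set K), y ∈ centralizer ({t} : Set K) := by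
      intro y hy
      rw [mem_centralizer_singleton_iff] at hy ⊢
      rw [← hx2', ← mul_assoc, hy, mul_assoc, hy, ← mul_assoc]
    choose σ hσ1 hσ2 hσ3 using pr_sigma
    choose c hcv using fun n => Cfsg.Agent.KFacts.QMinus.exists_c M (σ n) (hσ1 n)
    have hcx : ∀ n, c n * x * (c n)⁻¹ = v (pr n).1 * v (pr n).2 := by
      intro n
      have h1 := hcv n 0
      have h2 := hcv n 1
      rw [hσ2] at h1
      rw [hσ3] at h2
      rw [← h1, ← h2, hx]
      group
    let f : Fin 10 × centralizer ({(x : K)} : Set K) → centralizer ({t} : Set K) :=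
      fun p => c p.1 * ⟨p.2, hle _ p.2.2⟩
    have hf : Function.Injective f := by
      rintro ⟨m, y, hy⟩ ⟨n, w, hw⟩ he
      have he' : c m * ⟨y, hle _ hy⟩ = c n * ⟨w, hle _ hw⟩ := he
      have key : ∀ (m : Fin 10) (y : K) (hy : y ∈ centralizer ({(x : K)} : Set K)),
          (c m * ⟨y, hle _ hy⟩) * x * (c m * ⟨y, hle _ hy⟩)⁻¹ = v (pr m).1 * v (pr m).2 := by
        intro m y hy
        have h1 : (⟨y, hle _ hy⟩ : centralizer ({t} : Set K)) * x = x * ⟨y, hle _ hy⟩ := by
          apply Subtype.ext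
          exact mem_centralizer_singleton_iff.1 hy
        rw [mul_inv_rev, ← hcx m]
        calc c m * ⟨y, hle _ hy⟩ * x * (⟨y, hle _ hy⟩⁻¹ * (c m)⁻¹)
            = c m * (⟨y, hle _ hy⟩ * x) * ⟨y, hle _ hy⟩⁻¹ * (c m)⁻¹ := by group
          _ = c m * x * (c m)⁻¹ := by rw [h1]; group
      have h1 := key m y hy
      rw [he', key n w hw] at h1
      have h2 := congrArg (fun g => (ρ g).s) h1
      simp only [rho_vv M] at h2
      have h3 : n = m := pr_inj n m h2
      subst h3
      have h4 := mul_left_cancel he'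
      have h5 : y = w := congrArg Subtype.val h4
      subst h5
      rfl
    have h1 := Nat.card_le_card_of_injective f hf
    rw [Nat.card_prod, Nat.card_eq_fintype_card, Fintype.card_fin, hc] at h1
    omega

/-- **J3** -/
theorem cube_J3 {G : Type u} [Group G] (h : Cfsg.Spor.IsoJ3 G) : Cfsg.Agent.H383.Cube.CubeBound G := by
  obtain ⟨-, hcK, hM⟩ := Cfsg.Agent.H898.J3Cent.base h
  haveI hfin : Finite G := Nat.finite_of_card_ne_zero (by rw [hcK]; norm_num)
  haveI : Fact (Nat.Prime 2) := ⟨Nat.prime_two⟩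
  haveI : Fact (Nat.Prime 17) := ⟨by norm_num⟩
  haveI : Fact (Nat.Prime 19) := ⟨by norm_num⟩
  obtain ⟨t, ht⟩ := exists_prime_orderOf_dvd_card' (G := G) 2 (by rw [hcK]; norm_num)
  obtain ⟨a, ha⟩ := exists_prime_orderOf_dvd_card' (G := G) 17 (by rw [hcK]; norm_num)
  obtain ⟨b, hb⟩ := exists_prime_orderOf_dvd_card' (G := G) 19 (by rw [hcK]; norm_num)
  obtain ⟨x, hx, hxc⟩ := exists_four (hM t ht)
  have h17 := (Cfsg.Agent.H898.J3Cent.seventeen h ha).1
  have h19 := Cfsg.Agent.H898.J3Cent.card_nineteen h hb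
  let y : ℕ → G := fun r => if r = 2 then x else if r = 17 then a else b
  have hk := Cfsg.Agent.H540.EngG.card_conjClasses_le' (G := G) {2, 17, 19} (by
    intro r hr
    simp only [Finset.mem_insert, Finset.mem_singleton] at hr
    rcases hr with rfl | rfl | rfl <;> norm_num) y (by
    intro r hr
    simp only [Finset.mem_insert, Finset.mem_singleton] at hr
    rcases hr with rfl | rfl | rfl
    · exact ⟨2, hx⟩
    · exact ⟨1, by simpa [y] using ha⟩
    · exact ⟨1, by simpa [y] using hb⟩)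
  have h1 : ∑ r ∈ ({2, 17, 19} : Finset ℕ), Nat.card (centralizer ({y r} : Set G)) =
      Nat.card (centralizer ({x} : Set G)) + (17 + 19) := by
    rw [Finset.sum_insert (by decide), Finset.sum_insert (by decide), Finset.sum_singleton]
    have e1 : y 2 = x := rfl
    have e2 : y 17 = a := rfl
    have e3 : y 19 = b := rfl
    rw [e1, e2, e3, h17, h19]
  have h2 : ∏ r ∈ ({2, 17, 19} : Finset ℕ), r = 646 := by decide
  rw [h1, h2, hcK] at hk
  refine CubeBound.of_card_conjClasses (k := 348) ?_ (by rw [hcK]; norm_num)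
  omega

end Cfsg.Agent.H269.CubeJ3
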