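import Cfsg.Prelude.Def_KGroupFacts
import Cfsg.Agent.H383.Cube.Basic

/-!
# The cube bound for groups without outer automorphisms (helper269, for S5721/S5718)

(The same lemmas as in `H269.CubeMat`, with a small closure.)
-/

set_option autoImplicit false

namespace Cfsg.Agent.H269.CubeTools

open Cfsg.Agent.H383.Cube

theorem out_one {X : Type*} [Group X] (h : Nat.card (Cfsg.Out X) = 1) (α : MulAut X) :
    ∃ x : X, α = MulAut.conj x := by
  have hs : Subsingleton (Cfsg.Out X) := (Nat.card_eq_one_iff_unique.1 h).1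
  have h1 : ((α : MulAut X) : Cfsg.Out X) = ((1 : MulAut X) : Cfsg.Out X) := Subsingleton.elim _ _
  rw [QuotientGroup.eq] at h1
  obtain ⟨x, hx⟩ := h1
  refine ⟨x⁻¹, ?_⟩
  rw [map_inv, hx]
  group

theorem out_two {X : Type*} [Group X] (h : Nat.card (Cfsg.Out X) = 2) (β : MulAut X)
    (hβ : ∀ x : X, β ≠ MulAut.conj x) (α : MulAut X) :
    (∃ x : X, α = MulAut.conj x) ∨ ∃ x : X, α = MulAut.conj x * β := by
  have hb : ((β : MulAut X) : Cfsg.Out X) ≠ ((1 : MulAut X) : Cfsg.Out X) := by
    intro e
    rw [QuotientGroup.eq] at e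
    obtain ⟨x, hx⟩ := e
    refine hβ x⁻¹ ?_
    rw [map_inv, hx]
    group
  have h2 : ∀ y : Cfsg.Out X, y = ((1 : MulAut X) : Cfsg.Out X) ∨ y = ((β : MulAut X) : Cfsg.Out X) := by
    intro y
    haveI : Finite (Cfsg.Out X) := Nat.finite_of_card_ne_zero (by rw [h]; norm_num)
    haveI := Fintype.ofFinite (Cfsg.Out X)
    classical
    by_contra hcon
    push Not at hcon
    have h3 : ({y, ((1 : MulAut X) : Cfsg.Out X), ((β : MulAut X) : Cfsg.Out X)} : Finset (Cfsg.Out X)).card = 3 := by
      rw [Finset.card_insert_of_notMem, Finset.card_insert_of_notMem, Finset.card_singleton]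
      · rw [Finset.mem_singleton]; exact fun e => hb e.symm
      · rw [Finset.mem_insert, Finset.mem_singleton]
        rintro (e | e)
        · exact hcon.1 e
        · exact hcon.2 e
    have h4 := Finset.card_le_univ
      ({y, ((1 : MulAut X) : Cfsg.Out X), ((β : MulAut X) : Cfsg.Out X)} : Finset (Cfsg.Out X))
    rw [h3, ← Nat.card_eq_fintype_card, h] at h4
    omega
  rcases h2 ((α : MulAut X) : Cfsg.Out X) with e | e
  · left
    rw [QuotientGroup.eq] at e
    obtain ⟨x, hx⟩ := e
    refine ⟨x⁻¹, ?_⟩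
    rw [map_inv, hx]
    group
  · right
    have e' := e.symm
    rw [QuotientGroup.eq] at e'
    obtain ⟨x, hx⟩ := e'
    -- `conj x = β⁻¹ α`, `α = β conj x = conj (β x) β`
    refine ⟨β x, ?_⟩
    have h3 : α = β * MulAut.conj x := by rw [hx]; group
    rw [h3]
    ext y
    simp [MulAut.conj_apply]

theorem sq_of_conj {X : Type*} [Group X] (hZ : Subgroup.center X = ⊥) {t : X}
    (ho : orderOf (MulAut.conj t) = 2) : t * t = 1 ∧ t ≠ 1 := by
  constructor
  · have h1 : MulAut.conj t ^ 2 = 1 := by rw [← ho]; exact pow_orderOf_eq_one _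
    have h2 : t * t ∈ Subgroup.center X := by
      rw [Subgroup.mem_center_iff]
      intro g
      have h3 := congrArg (fun f : MulAut X => f g) h1
      rw [← map_pow, pow_two] at h3
      simp only [MulAut.conj_apply, MulAut.one_apply] at h3
      calc g * (t * t) = (t * t * g * (t * t)⁻¹) * (t * t) := by rw [h3]
        _ = t * t * g := by group
    rw [hZ, Subgroup.mem_bot] at h2
    exact h2
  · rintro rfl
    rw [map_one, orderOf_one] at ho
    exact absurd ho (by norm_num)

theorem center_bot_of_simple {X : Type*} [Group X] [IsSimpleGroup X] (h : ¬ (Nat.card X).Prime) [Finite X] :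
    Subgroup.center X = ⊥ := by
  rcases (Subgroup.instNormalCenter (G := X)).eq_bot_or_eq_top with h1 | h1
  · exact h1
  · exfalso
    apply h
    letI : CommGroup X := { (inferInstance : Group X) with
      mul_comm := fun a b => by
        have : b ∈ Subgroup.center X := h1 ▸ Subgroup.mem_top b
        exact Subgroup.mem_center_iff.1 this a }
    exact IsSimpleGroup.prime_card

/-- groups without outer automorphisms -/
theorem cube_inner {X : Type*} [Group X] (N : ℕ) (hN : Nat.card X < N ^ 3) (hZ : Subgroup.center X = ⊥)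
    (hO : ∀ α : MulAut X, ∃ x : X, α = MulAut.conj x)
    (hC : ∀ t : X, t * t = 1 → t ≠ 1 → N ≤ Nat.card (Subgroup.centralizer ({t} : Set X))) : CubeBound X := by
  intro α ho
  obtain ⟨t, rfl⟩ := hO α
  obtain ⟨h1, h2⟩ := sq_of_conj hZ ho
  refine lt_of_lt_of_le hN (Nat.pow_le_pow_left ((hC t h1 h2).trans ?_) 3)
  refine le_of_eq (Nat.card_congr (Equiv.subtypeEquivRight fun x => ?_))
  rw [Subgroup.mem_centralizer_singleton_iff, MulAut.conj_apply, mul_inv_eq_iff_eq_mul]
  exact eq_comm

end Cfsg.Agent.H269.CubeTools
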