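import Cfsg.Agent.H269.CubeTools
import Cfsg.Agent.OddHalf.D4.Spor.J1Out
import Cfsg.Agent.UGT.EndJ1.Data

/-!
# The cube bound for `J₁` (helper269, for S5721/S5718)
-/

set_option autoImplicit false

namespace Cfsg.Agent.H269.CubeJ1

open Cfsg Subgroup
open Cfsg.Agent.H383.Cube Cfsg.Agent.H269.CubeTools

theorem cube_J1' : CubeBound Spor.J1 := by
  obtain ⟨D⟩ := Cfsg.Agent.UGT.EndJ1.Data.exists_dat
  have hc := D.card
  haveI : Finite Spor.J1 := D.fin
  haveI : IsSimpleGroup Spor.J1 := Cfsg.Agent.SporadicB.J1.Main.isJ1.1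
  refine cube_inner 120 (by rw [hc]; norm_num) (center_bot_of_simple (by rw [hc]; norm_num))
    Cfsg.Agent.OddHalf.D4.Spor.J1Out.inn ?_
  intro t h1 h2
  obtain ⟨g, hg⟩ := D.conj_t h1 h2
  have h3 : Nat.card (centralizer ({t} : Set Spor.J1)) = Nat.card (centralizer ({D.t} : Set Spor.J1)) := by
    refine (Nat.card_congr (Equiv.subtypeEquiv (MulAut.conj g).toEquiv fun x => ?_)).symm
    show x ∈ centralizer ({D.t} : Set Spor.J1) ↔ g * x * g⁻¹ ∈ centralizer ({t} : Set Spor.J1)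
    rw [mem_centralizer_singleton_iff, mem_centralizer_singleton_iff, ← hg]
    constructor
    · intro h
      calc g * x * g⁻¹ * (g * D.t * g⁻¹) = g * (x * D.t) * g⁻¹ := by group
        _ = g * (D.t * x) * g⁻¹ := by rw [h]
        _ = g * D.t * g⁻¹ * (g * x * g⁻¹) := by group
    · intro h
      calc x * D.t = g⁻¹ * (g * x * g⁻¹ * (g * D.t * g⁻¹)) * g := by group
        _ = g⁻¹ * (g * D.t * g⁻¹ * (g * x * g⁻¹)) * g := by rw [h]
        _ = D.t * x := by group
  rw [h3, D.card_C]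

/-- **J1** -/
theorem cube_J1 {G : Type*} [Group G] (h : Cfsg.Spor.IsoJ1 G) : Cfsg.Agent.H383.Cube.CubeBound G := by
  obtain ⟨e⟩ := h
  exact CubeBound.congr e.symm cube_J1'

end Cfsg.Agent.H269.CubeJ1
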