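import Cfsg.Prelude.Def_KGroupFacts
import Cfsg.Agent.H383.Cube.Basic
import Cfsg.Agent.H866.InvolType
import Cfsg.Agent.H865.ThreeCounts
import Cfsg.Agent.KFacts.M24Two.Orders

/-!
# Centralizers of involutions in stabilizers inside `M24` (helper269, for S5721/S5718)

* `out_one`, `out_two` : automorphisms of a group with `|Out| = 1`, `2`;
* `card_cent` : the centralizer in `M24` of an involution `h` has order 21504 (`fx h = 8`) or 7680 (`fx h = 0`);
* `card_le_mul` : `|C(h)| ≤ |S| |C(h) ∩ Stab(b)|` if the orbit of `b` under `C(h)` is contained in `S`;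
* `cube_of` : the criterion for `CubeBound T`, `T ≤ M24`;
* `ncard_dod`, `ncard_dod_compl` : numbers of dodecads `d` with `h d = d`, `h d = univ \ d`.
-/

set_option autoImplicit false

namespace Cfsg.Agent.H269.CubeMat

open Cfsg Equiv
open Cfsg.Agent.SporadicA.GolayBase Cfsg.Agent.SporadicA.GolayPerm
open Cfsg.Agent.SporadicStructure.M24El Cfsg.Agent.J4.M24InvolData
open Cfsg.Agent.SporadicStructure
open Cfsg.Agent.H866.InvolType
open Cfsg.Agent.H383.Cube
open scoped Pointwise

/-! ### outer automorphism groups -/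

theorem out_one {X : Type*} [Group X] (h : Nat.card (Cfsg.Out X) = 1) (α : MulAut X) :
    ∃ x : X, α = MulAut.conj x := by
  have hs : Subsingleton (Cfsg.Out X) := (Nat.card_eq_one_iff_unique.1 h).1
  have h1 : ((α : MulAut X) : Cfsg.Out X) = ((1 : MulAut X) : Cfsg.Out X) := Subsingleton.elim _ _
  rw [QuotientGroup.eq] at h1
  obtain ⟨x, hx⟩ := h1
  refine ⟨x⁻¹, ?_⟩
  rw [map_inv, hx]
  group

theorem out_two {X : Type*} [Group X] (h : Nat.card (Cfsg.Out X) = 2) (β : MulAut X)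
    (hβ : ∀ x : X, β ≠ MulAut.conj x) (α : MulAut X) :
    (∃ x : X, α = MulAut.conj x) ∨ ∃ x : X, α = MulAut.conj x * β := by
  have hb : ((β : MulAut X) : Cfsg.Out X) ≠ ((1 : MulAut X) : Cfsg.Out X) := by
    intro e
    rw [QuotientGroup.eq] at e
    obtain ⟨x, hx⟩ := e
    refine hβ x⁻¹ ?_
    rw [map_inv, hx]
    group
  have h2 : ∀ y : Cfsg.Out X, y = ((1 : MulAut X) : Cfsg.Out X) ∨ y = ((β : MulAut X) : Cfsg.Out X) := by
    intro y
    haveI : Finite (Cfsg.Out X) := Nat.finite_of_card_ne_zero (by rw [h]; norm_num)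
    haveI := Fintype.ofFinite (Cfsg.Out X)
    classical
    by_contra hcon
    push Not at hcon
    have h3 : ({y, ((1 : MulAut X) : Cfsg.Out X), ((β : MulAut X) : Cfsg.Out X)} : Finset (Cfsg.Out X)).card = 3 := by
      rw [Finset.card_insert_of_notMem, Finset.card_insert_of_notMem, Finset.card_singleton]
      · rw [Finset.mem_singleton]; exact fun e => hb e.symm
      · rw [Finset.mem_insert, Finset.mem_singleton]
        rintro (e | e)
        · exact hcon.1 e
        · exact hcon.2 e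
    have h4 := Finset.card_le_univ
      ({y, ((1 : MulAut X) : Cfsg.Out X), ((β : MulAut X) : Cfsg.Out X)} : Finset (Cfsg.Out X))
    rw [h3, ← Nat.card_eq_fintype_card, h] at h4
    omega
  rcases h2 ((α : MulAut X) : Cfsg.Out X) with e | e
  · left
    rw [QuotientGroup.eq] at e
    obtain ⟨x, hx⟩ := e
    refine ⟨x⁻¹, ?_⟩
    rw [map_inv, hx]
    group
  · right
    have e' := e.symm
    rw [QuotientGroup.eq] at e'
    obtain ⟨x, hx⟩ := e'
    -- `conj x = β⁻¹ α`, `α = β conj x = conj (β x) β`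
    refine ⟨β x, ?_⟩
    have h3 : α = β * MulAut.conj x := by rw [hx]; group
    rw [h3]
    ext y
    simp [MulAut.conj_apply]

/-! ### centralizers -/

/-- the centralizer in `M24` of an element of `Perm GolayPt`, as a subgroup of `Perm GolayPt` -/
def CM (h : Perm GolayPt) : Subgroup (Perm GolayPt) := M24 ⊓ Subgroup.centralizer ({h} : Set (Perm GolayPt))

theorem mem_CM {h c : Perm GolayPt} : c ∈ CM h ↔ c ∈ M24 ∧ c * h = h * c := by
  unfold CM
  rw [Subgroup.mem_inf, Subgroup.mem_centralizer_singleton_iff]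

theorem card_CM_conj {h k g : Perm GolayPt} (hk : k ∈ M24) (e : k * h * k⁻¹ = g) :
    Nat.card (CM h) = Nat.card (CM g) := by
  refine Nat.card_congr (Equiv.subtypeEquiv (MulAut.conj k).toEquiv fun x => ?_)
  show x ∈ CM h ↔ k * x * k⁻¹ ∈ CM g
  rw [mem_CM, mem_CM, ← e]
  constructor
  · rintro ⟨h1, h2⟩
    refine ⟨M24.mul_mem (M24.mul_mem hk h1) (M24.inv_mem hk), ?_⟩
    calc k * x * k⁻¹ * (k * h * k⁻¹) = k * (x * h) * k⁻¹ := by group
      _ = k * (h * x) * k⁻¹ := by rw [h2]
      _ = k * h * k⁻¹ * (k * x * k⁻¹) := by group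
  · rintro ⟨h1, h2⟩
    constructor
    · have := M24.mul_mem (M24.mul_mem (M24.inv_mem hk) h1) hk
      have e2 : k⁻¹ * (k * x * k⁻¹) * k = x := by group
      rwa [e2] at this
    · calc x * h = k⁻¹ * (k * x * k⁻¹ * (k * h * k⁻¹)) * k := by group
        _ = k⁻¹ * (k * h * k⁻¹ * (k * x * k⁻¹)) * k := by rw [h2]
        _ = h * x := by group

theorem card_CM_coe (u : M24) : Nat.card (CM (u : Perm GolayPt)) =
    Nat.card (Subgroup.centralizer ({u} : Set M24)) := by
  have h1 : ∀ c : Subgroup.centralizer ({u} : Set M24), ((c.1 : M24) : Perm GolayPt) ∈ CM (u : Perm GolayPt) := by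
    intro c
    have h1 := c.2
    rw [Subgroup.mem_centralizer_singleton_iff] at h1
    exact mem_CM.2 ⟨c.1.2, congrArg Subtype.val h1⟩
  have h2 : ∀ c : CM (u : Perm GolayPt), (⟨c.1, (mem_CM.1 c.2).1⟩ : M24) ∈ Subgroup.centralizer ({u} : Set M24) := by
    intro c
    rw [Subgroup.mem_centralizer_singleton_iff]
    apply Subtype.ext
    exact (mem_CM.1 c.2).2
  exact (Nat.card_congr ⟨fun c => ⟨((c.1 : M24) : Perm GolayPt), h1 c⟩, fun c => ⟨⟨c.1, (mem_CM.1 c.2).1⟩, h2 c⟩,
    fun _ => rfl, fun _ => rfl⟩).symm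

theorem card_CM_t1 : Nat.card (CM t1) = 21504 := by
  rw [← coe_el_P1, card_CM_coe]
  exact Cfsg.Agent.KFacts.M24Two.Orders.card_centralizer_z

theorem card_CM_t2 : Nat.card (CM t2) = 7680 := by
  rw [← coe_el_P2, card_CM_coe]
  exact Cfsg.Agent.KFacts.M24Two.Orders.card_centralizer_w

theorem orderOf_two {G : Type*} [Group G] {h : G} (h1 : h * h = 1) (h2 : h ≠ 1) : orderOf h = 2 :=
  orderOf_eq_prime (by rw [pow_two, h1]) h2

/-- the two types of involutions and their centralizers -/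
theorem card_cent {h : Perm GolayPt} (hM : h ∈ M24) (h1 : h * h = 1) (h2 : h ≠ 1) :
    (fx h = 8 ∧ Nat.card (CM h) = 21504 ∧ ∃ k ∈ M24, k * h * k⁻¹ = t1) ∨
    (fx h = 0 ∧ Nat.card (CM h) = 7680 ∧ ∃ k ∈ M24, k * h * k⁻¹ = t2) := by
  obtain ⟨k, hk, ⟨e, e0⟩ | ⟨e, e0⟩⟩ := invol_type hM (orderOf_two h1 h2)
  · left
    exact ⟨e0, by rw [card_CM_conj hk e, card_CM_t1], k, hk, e⟩
  · right
    exact ⟨e0, by rw [card_CM_conj hk e, card_CM_t2], k, hk, e⟩

/-- orbit bound -/
theorem card_le_mul {β : Type*} [MulAction (Perm GolayPt) β] (h : Perm GolayPt) (b : β) (S : Set β)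
    (hS : S.Finite) (hm : ∀ c ∈ CM h, c • b ∈ S) :
    Nat.card (CM h) ≤ S.ncard * Nat.card (CM h ⊓ MulAction.stabilizer (Perm GolayPt) b : Subgroup (Perm GolayPt)) := by
  have h1 := Subgroup.card_mul_index ((MulAction.stabilizer (Perm GolayPt) b).subgroupOf (CM h))
  have h2 : Nat.card ((MulAction.stabilizer (Perm GolayPt) b).subgroupOf (CM h)) =
      Nat.card (CM h ⊓ MulAction.stabilizer (Perm GolayPt) b : Subgroup (Perm GolayPt)) := by
    rw [← Subgroup.inf_subgroupOf_left]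
    exact Nat.card_congr (Subgroup.subgroupOfEquivOfLe inf_le_left).toEquiv
  have h3 : ((MulAction.stabilizer (Perm GolayPt) b).subgroupOf (CM h)).index ≤ S.ncard := by
    have h4 : (MulAction.stabilizer (Perm GolayPt) b).subgroupOf (CM h) = MulAction.stabilizer (CM h) b := by
      ext c
      rw [Subgroup.mem_subgroupOf, MulAction.mem_stabilizer_iff, MulAction.mem_stabilizer_iff]
      rfl
    rw [h4, MulAction.index_stabilizer]
    refine Set.ncard_le_ncard ?_ hS
    rintro _ ⟨c, rfl⟩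
    exact hm c c.2
  rw [← h1, h2, mul_comm]
  exact Nat.mul_le_mul_right _ h3

/-- the criterion -/
theorem cube_of (T : Subgroup (Perm GolayPt)) (N : ℕ) (hN : Nat.card T < N ^ 3)
    (hα : ∀ α : MulAut T, orderOf α = 2 → ∃ h : Perm GolayPt,
      (∀ x : T, ((α x : T) : Perm GolayPt) = h * x * h⁻¹) ∧
      N ≤ Nat.card (T ⊓ Subgroup.centralizer ({h} : Set (Perm GolayPt)) : Subgroup (Perm GolayPt))) :
    CubeBound T := by
  intro α ho
  obtain ⟨h, h1, h2⟩ := hα α ho
  refine lt_of_lt_of_le hN (Nat.pow_le_pow_left (h2.trans ?_) 3)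
  refine le_of_eq (Nat.card_congr ⟨fun c => ⟨⟨c.1, (Subgroup.mem_inf.1 c.2).1⟩, ?_⟩,
    fun c => ⟨(c.1 : Perm GolayPt), Subgroup.mem_inf.2 ⟨c.1.2, ?_⟩⟩, fun c => rfl, fun c => rfl⟩)
  · apply Subtype.ext
    rw [h1]
    have h3 := (Subgroup.mem_inf.1 c.2).2
    rw [Subgroup.mem_centralizer_singleton_iff] at h3
    show h * c.1 * h⁻¹ = c.1
    rw [← h3]
    group
  · rw [Subgroup.mem_centralizer_singleton_iff]
    have h3 := congrArg Subtype.val c.2
    rw [h1] at h3
    calc ((c.1 : T) : Perm GolayPt) * h = (h * (c.1 : T) * h⁻¹) * h := by rw [h3]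
      _ = h * ((c.1 : T) : Perm GolayPt) := by group

/-! ### dodecads -/

theorem ok_P1 : ok P1 = true := Cfsg.Agent.J4.M24Invol.ok_P1
theorem ok_P2 : ok P2 = true := Cfsg.Agent.J4.M24Invol.ok_P2

theorem smul_mem_dod : ∀ k ∈ M24, ∀ x ∈ dodecads, k • x ∈ dodecads := H865.ThreeCounts.smul_mem_dodecads'

theorem ncard_dod_t1 : {o : Finset GolayPt | o ∈ dodecads ∧ t1 • o = o}.ncard = 112 := by
  have h := H865.FixCount.ncard_words ok_P1 12
  have h2 : GolayCnt.cnt 12 0 (fun i => Nat.beq (popcount (enc i)) 12 &&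
      Nat.beq (pimg P1 (enc i)) (enc i)) = 112 := by decide +kernel
  rw [h2, coe_el_P1] at h
  exact h

theorem ncard_dod_t2 : {o : Finset GolayPt | o ∈ dodecads ∧ t2 • o = o}.ncard = 32 := by
  have h := H865.FixCount.ncard_words ok_P2 12
  have h2 : GolayCnt.cnt 12 0 (fun i => Nat.beq (popcount (enc i)) 12 &&
      Nat.beq (pimg P2 (enc i)) (enc i)) = 32 := by decide +kernel
  rw [h2, coe_el_P2] at h
  exact h

theorem fin_compl (m : ℕ) : fin (m ^^^ 16777215) = Finset.univ \ fin m := by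
  have h0 : fin 16777215 = Finset.univ := by decide +kernel
  rw [fin_xor, h0]
  ext p
  simp [Finset.mem_symmDiff]

/-- The number of words of weight `w` (as sets) mapped to the complement by `el P`. -/
theorem ncard_words_compl {P : ℕ} (h : ok P = true) (w : ℕ) :
    {o : Finset GolayPt | o ∈ wordsOfWeight (golayCode : Set (GolayPt → ZMod 2)) w ∧
      (el P : Equiv.Perm GolayPt) • o = Finset.univ \ o}.ncard =
      GolayCnt.cnt 12 0 (fun i => Nat.beq (popcount (enc i)) w &&
        Nat.beq (pimg P (enc i)) (enc i ^^^ 16777215)) := by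
  have h1 := GolayCnt.ncard_supports
    (fun s => s.card = w ∧ (el P : Equiv.Perm GolayPt) • s = Finset.univ \ s)
    (fun m => Nat.beq (popcount m) w && Nat.beq (pimg P m) (m ^^^ 16777215)) (by
      intro m hm
      have hlt : m ^^^ 16777215 < 2 ^ 24 :=
        Nat.xor_lt_two_pow (isCode_lt hm) (by norm_num)
      rw [Bool.and_eq_true, Nat.beq_eq, Nat.beq_eq, H865.FixCount.coe_smul_fin h, card_fin, ← fin_compl]
      exact and_congr_right fun _ =>
        ⟨fun e => by rw [e], fun e => fin_injective (H865.FixCount.pimg_lt' h m) hlt e⟩)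
  rw [← h1]
  congr 1
  ext s
  show (s ∈ supports _ ∧ s.card = w) ∧ _ ↔ s ∈ supports _ ∧ s.card = w ∧ _
  rw [and_assoc]

theorem ncard_dod_t2_compl : {o : Finset GolayPt | o ∈ dodecads ∧ t2 • o = Finset.univ \ o}.ncard = 64 := by
  have h := ncard_words_compl ok_P2 12
  have h2 : GolayCnt.cnt 12 0 (fun i => Nat.beq (popcount (enc i)) 12 &&
      Nat.beq (pimg P2 (enc i)) (enc i ^^^ 16777215)) = 64 := by decide +kernel
  rw [h2, coe_el_P2] at h
  exact h

theorem smul_sdiff_univ (k : Perm GolayPt) (x : Finset GolayPt) : k • (Finset.univ \ x) = Finset.univ \ (k • x) := by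
  ext p
  rw [← Finset.inv_smul_mem_iff, Finset.mem_sdiff, Finset.mem_sdiff, ← Finset.inv_smul_mem_iff (s := x)]
  simp

/-- transport of the number of dodecads mapped to their complement -/
theorem ncard_transport_compl {g g' k : Perm GolayPt} (hk : k ∈ M24) (h : k * g * k⁻¹ = g') :
    {x | x ∈ dodecads ∧ g • x = Finset.univ \ x}.ncard = {x | x ∈ dodecads ∧ g' • x = Finset.univ \ x}.ncard := by
  have h1 : {x | x ∈ dodecads ∧ g' • x = Finset.univ \ x} =
      (fun x => k • x) '' {x | x ∈ dodecads ∧ g • x = Finset.univ \ x} := by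
    ext x
    constructor
    · rintro ⟨hx, hgx⟩
      refine ⟨k⁻¹ • x, ⟨smul_mem_dod _ (M24.inv_mem hk) x hx, ?_⟩, smul_inv_smul k x⟩
      rw [← h, mul_smul, mul_smul] at hgx
      rw [← smul_sdiff_univ, ← hgx, inv_smul_smul]
    · rintro ⟨y, ⟨hy, hgy⟩, rfl⟩
      refine ⟨smul_mem_dod _ hk y hy, ?_⟩
      show g' • k • y = Finset.univ \ (k • y)
      rw [← h, mul_smul, mul_smul, inv_smul_smul, hgy, smul_sdiff_univ]
  rw [h1, Set.ncard_image_of_injective _ (MulAction.injective k)]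

end Cfsg.Agent.H269.CubeMat
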