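import Mathlib

/-!
# Internal direct products of nonabelian simple subgroups

Components, trivial centre, the simple normal subgroups are the factors, conjugation permutes the factors.
-/

set_option autoImplicit false

namespace Cfsg.Agent.H269

open Subgroup

variable {G : Type*} [Group G]

/-- `K` is the internal direct product of the nonabelian simple subgroups `L i`. -/
structure DirSimple (r : ℕ) (L : Fin r → Subgroup G) (K : Subgroup G) : Prop where
  comm : ∀ i j, i ≠ j → ∀ a ∈ L i, ∀ b ∈ L j, a * b = b * a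
  indep : ∀ i, L i ⊓ (⨆ j ∈ {j | j ≠ i}, L j) = ⊥
  sup : (⨆ i, L i) = K
  simple : ∀ i, IsSimpleGroup (L i)
  nonab : ∀ i, ∃ a b : L i, a * b ≠ b * a

namespace DirSimple

variable {r : ℕ} {L : Fin r → Subgroup G} {K : Subgroup G}

theorem comm' (h : DirSimple r L K) :
    Pairwise fun i j : Fin r => ∀ x y : G, x ∈ L i → y ∈ L j → Commute x y :=
  fun i j hij x y hx hy => h.comm i j hij x hx y hy

theorem iSupIndep (h : DirSimple r L K) : iSupIndep L := by
  intro i
  rw [disjoint_iff]
  exact h.indep i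

theorem injective (h : DirSimple r L K) : Function.Injective (noncommPiCoprod h.comm') :=
  injective_noncommPiCoprod_of_iSupIndep h.iSupIndep

theorem range (h : DirSimple r L K) : (noncommPiCoprod h.comm').range = K := by
  rw [noncommPiCoprod_range, h.sup]

theorem le (h : DirSimple r L K) (i : Fin r) : L i ≤ K := by
  rw [← h.sup]; exact le_iSup L i

theorem exists_pi (h : DirSimple r L K) {x : G} (hx : x ∈ K) :
    ∃ f : (i : Fin r) → L i, noncommPiCoprod h.comm' f = x := by
  rw [← h.range] at hx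
  exact hx

theorem pi_mem (h : DirSimple r L K) (f : (i : Fin r) → L i) : noncommPiCoprod h.comm' f ∈ K := by
  have h1 : noncommPiCoprod h.comm' f ∈ (noncommPiCoprod h.comm').range := ⟨f, rfl⟩
  rwa [h.range] at h1

theorem pi_single (h : DirSimple r L K) (i : Fin r) (a : L i) :
    noncommPiCoprod h.comm' (Pi.mulSingle i a) = a := noncommPiCoprod_mulSingle i a

/-- Commuting with a factor can be tested on the component. -/
theorem commute_iff (h : DirSimple r L K) (f : (i : Fin r) → L i) (i : Fin r) (a : L i) :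
    Commute (noncommPiCoprod h.comm' f) (a : G) ↔ Commute (f i) a := by
  rw [← h.pi_single i a]
  constructor
  · intro hc
    have h1 : noncommPiCoprod h.comm' (f * Pi.mulSingle i a) = noncommPiCoprod h.comm' (Pi.mulSingle i a * f) := by
      rw [map_mul, map_mul]; exact hc
    have h2 := congrFun (h.injective h1) i
    simp only [Pi.mul_apply, Pi.mulSingle_eq_same] at h2
    exact h2
  · intro hc
    show _ * _ = _ * _
    rw [← map_mul, ← map_mul]
    congr 1
    funext j
    by_cases hj : j = i
    · subst hj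
      simp only [Pi.mul_apply, Pi.mulSingle_eq_same]
      exact hc
    · simp [Pi.mulSingle_eq_of_ne hj]

theorem center_eq (h : DirSimple r L K) (i : Fin r) (a : L i) (ha : ∀ b : L i, Commute a b) : a = 1 := by
  have hs := h.simple i
  rcases hs.eq_bot_or_eq_top_of_normal (center (L i)) inferInstance with h1 | h1
  · have : a ∈ center (L i) := mem_center_iff.2 (fun b => (ha b).symm)
    rw [h1, mem_bot] at this
    exact this
  · exfalso
    obtain ⟨x, y, hxy⟩ := h.nonab i
    apply hxy
    have : x ∈ center (L i) := by rw [h1]; exact mem_top _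
    exact (mem_center_iff.1 this y).symm

/-- The centralizer of all factors in `K` is trivial. -/
theorem eq_one_of_centralizes (h : DirSimple r L K) {x : G} (hx : x ∈ K)
    (hc : ∀ i, x ∈ centralizer (L i : Set G)) : x = 1 := by
  obtain ⟨f, rfl⟩ := h.exists_pi hx
  have hf : f = 1 := by
    funext i
    apply h.center_eq i
    intro b
    apply (h.commute_iff f i b).1
    exact (mem_centralizer_iff.1 (hc i) b b.2).symm
  rw [hf, map_one]

theorem inf_centralizer (h : DirSimple r L K) (i : Fin r) {a : G} (ha : a ∈ L i)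
    (hc : a ∈ centralizer (L i : Set G)) : a = 1 := by
  have h1 := h.center_eq i ⟨a, ha⟩ (fun b => Subtype.ext (mem_centralizer_iff.1 hc b b.2).symm)
  exact congrArg Subtype.val h1

/-- Decomposition of an element of `K` into a component and an element centralizing the factor. -/
theorem decomp (h : DirSimple r L K) {x : G} (hx : x ∈ K) (i : Fin r) :
    ∃ a ∈ L i, ∃ b ∈ K ⊓ centralizer (L i : Set G), x = a * b := by
  obtain ⟨f, rfl⟩ := h.exists_pi hx
  refine ⟨f i, (f i).2, (f i : G)⁻¹ * noncommPiCoprod h.comm' f, ⟨?_, ?_⟩, by rw [mul_inv_cancel_left]⟩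
  · exact K.mul_mem (K.inv_mem (h.le i (f i).2)) (h.pi_mem f)
  · have h1 : (f i : G)⁻¹ * noncommPiCoprod h.comm' f =
        noncommPiCoprod h.comm' (Pi.mulSingle i (f i)⁻¹ * f) := by
      rw [map_mul, h.pi_single]; rfl
    rw [h1]
    apply mem_centralizer_iff.2
    intro b hb
    have h2 := (h.commute_iff (Pi.mulSingle i (f i)⁻¹ * f) i ⟨b, hb⟩).2 (by simp)
    exact h2.symm

/-- `K` normalizes each factor. -/
theorem conj_mem (h : DirSimple r L K) {k : G} (hk : k ∈ K) (i : Fin r) {a : G} (ha : a ∈ L i) :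
    k * a * k⁻¹ ∈ L i := by
  obtain ⟨c, hc, b, hb, rfl⟩ := h.decomp hk i
  have h1 : b * a = a * b := (mem_centralizer_iff.1 hb.2 a ha).symm
  have h2 : c * b * a * (c * b)⁻¹ = c * a * c⁻¹ := by
    calc c * b * a * (c * b)⁻¹ = c * (b * a) * b⁻¹ * c⁻¹ := by group
      _ = c * a * c⁻¹ := by rw [h1]; group
  rw [h2]
  exact mul_mem (mul_mem hc ha) (inv_mem hc)

/-- Uniqueness of the decomposition. -/
theorem decomp_unique (h : DirSimple r L K) (i : Fin r) {a a' b b' : G} (ha : a ∈ L i) (ha' : a' ∈ L i)
    (hb : b ∈ centralizer (L i : Set G)) (hb' : b' ∈ centralizer (L i : Set G)) (he : a * b = a' * b') : a = a' := by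
  have h1 : a'⁻¹ * a = b' * b⁻¹ := by
    have h2 : a'⁻¹ * (a * b) = a'⁻¹ * (a' * b') := by rw [he]
    rw [inv_mul_cancel_left] at h2
    rw [← h2]; group
  have h3 : a'⁻¹ * a = 1 := by
    apply h.inf_centralizer i (mul_mem (inv_mem ha') ha)
    rw [h1]
    exact mul_mem hb' (inv_mem hb)
  exact (inv_mul_eq_one.1 h3).symm

/-- A nonabelian simple subgroup normalized by `K` and contained in it is one of the factors. -/
theorem eq_factor (h : DirSimple r L K) (M : Subgroup G) (hMK : M ≤ K) (hs : IsSimpleGroup M)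
    (hM : ∀ k ∈ K, ∀ m ∈ M, k * m * k⁻¹ ∈ M) : ∃ i, M = L i := by
  by_contra hcon
  push Not at hcon
  have hinf : ∀ i, M ⊓ L i = ⊥ := by
    intro i
    by_contra hne
    -- `M ⊓ L i` is normal in both
    have hn1 : ((M ⊓ L i).subgroupOf M).Normal := by
      refine ⟨fun x hx g => ?_⟩
      rw [mem_subgroupOf] at hx ⊢
      exact ⟨(g * x * g⁻¹).2, h.conj_mem (hMK g.2) i hx.2⟩
    have hn2 : ((M ⊓ L i).subgroupOf (L i)).Normal := by
      refine ⟨fun x hx g => ?_⟩
      rw [mem_subgroupOf] at hx ⊢
      exact ⟨hM g (h.le i g.2) x hx.1, (g * x * g⁻¹).2⟩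
    have h1 : (M ⊓ L i).subgroupOf M = ⊤ := by
      rcases hs.eq_bot_or_eq_top_of_normal _ hn1 with h2 | h2
      · exfalso
        apply hne
        rw [eq_bot_iff]
        intro x hx
        have h3 : (⟨x, hx.1⟩ : M) ∈ (M ⊓ L i).subgroupOf M := mem_subgroupOf.2 hx
        rw [h2, mem_bot] at h3
        exact mem_bot.2 (congrArg Subtype.val h3)
      · exact h2
    have h2 : (M ⊓ L i).subgroupOf (L i) = ⊤ := by
      rcases (h.simple i).eq_bot_or_eq_top_of_normal _ hn2 with h2 | h2
      · exfalso
        apply hne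
        rw [eq_bot_iff]
        intro x hx
        have h3 : (⟨x, hx.2⟩ : L i) ∈ (M ⊓ L i).subgroupOf (L i) := mem_subgroupOf.2 hx
        rw [h2, mem_bot] at h3
        exact mem_bot.2 (congrArg Subtype.val h3)
      · exact h2
    apply hcon i
    apply le_antisymm
    · exact fun x hx => (subgroupOf_eq_top.1 h1 hx).2
    · exact fun x hx => (subgroupOf_eq_top.1 h2 hx).1
  -- so `M` centralizes all factors
  have hM1 : M = ⊥ := by
    rw [eq_bot_iff]
    intro m hm
    rw [mem_bot]
    apply h.eq_one_of_centralizes (hMK hm)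
    intro i
    rw [mem_centralizer_iff]
    intro a ha
    have h1 : m * a * m⁻¹ * a⁻¹ ∈ M ⊓ L i := by
      refine ⟨?_, (L i).mul_mem (h.conj_mem (hMK hm) i ha) ((L i).inv_mem ha)⟩
      have h2 : m * a * m⁻¹ * a⁻¹ = m * (a * m⁻¹ * a⁻¹) := by group
      rw [h2]
      exact M.mul_mem hm (hM a (h.le i ha) _ (M.inv_mem hm))
    rw [hinf i, mem_bot] at h1
    have h3 : m * a * m⁻¹ = a := mul_inv_eq_one.1 h1
    calc a * m = m * a * m⁻¹ * m := by rw [h3]
      _ = m * a := by group
  have := hs.toNontrivial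
  exact (Subgroup.nontrivial_iff_ne_bot M).1 this hM1

/-- Conjugation permutes the factors when `K` is normal. -/
theorem exists_conj (h : DirSimple r L K) (hK : K.Normal) (g : G) (i : Fin r) :
    ∃ j, (L i).map (MulAut.conj g).toMonoidHom = L j := by
  apply h.eq_factor
  · rintro _ ⟨a, ha, rfl⟩
    exact hK.conj_mem a (h.le i ha) g
  · have e := (L i).equivMapOfInjective (MulAut.conj g).toMonoidHom (MulAut.conj g).injective
    have := h.simple i
    exact e.isSimpleGroup_congr.1 this
  · rintro k hk _ ⟨a, ha, rfl⟩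
    have h1 : g⁻¹ * k * g ∈ K := by
      have := hK.conj_mem k hk g⁻¹
      rwa [inv_inv] at this
    refine ⟨(g⁻¹ * k * g) * a * (g⁻¹ * k * g)⁻¹, h.conj_mem h1 i ha, ?_⟩
    show g * _ * g⁻¹ = k * (g * a * g⁻¹) * k⁻¹
    group

end DirSimple

end Cfsg.Agent.H269
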