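import Cfsg.Agent.H789.Exo.Defs
import Cfsg.Agent.TypeM.FactsMcL
import Cfsg.Agent.CpAutJThree.Row
import Cfsg.Agent.Omega.Quasithin.Row.McL
import Cfsg.Agent.Omega.Quasithin.Row.Suz
import Cfsg.Agent.NotCT.Orders

/-!
# S5268, sporadic groups I (helper269, for helper789)

`Pearly p n G → False` for `M11, M12, M22, M23, M24, J1, J2, J3, J4, HS, McL, He, Ru, Suz, ON, Co1, Co2, Co3` and the
Tits group.
-/

set_option autoImplicit false

namespace Cfsg.Agent.H269.ExoSpo

open Cfsg Cfsg.Agent.H789.Exo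

universe u v

/-! ### orders -/

/-- prime divisors of a product of prime powers -/
theorem mem_of_dvd {p : ℕ} (hp : p.Prime) : ∀ L : List (ℕ × ℕ), (∀ x ∈ L, x.1.Prime) →
    p ∣ (L.map fun x => x.1 ^ x.2).prod → ∃ x ∈ L, p = x.1
  | [], _, h => absurd (Nat.dvd_one.1 h) hp.one_lt.ne'
  | x :: L, hL, h => by
    rw [List.map_cons, List.prod_cons] at h
    rcases hp.dvd_mul.1 h with h1 | h1
    · exact ⟨x, List.mem_cons_self, (Nat.prime_dvd_prime_iff_eq hp (hL x List.mem_cons_self)).1 (hp.dvd_of_dvd_pow h1)⟩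
    · obtain ⟨y, hy, e⟩ := mem_of_dvd hp L (fun y hy => hL y (List.mem_cons_of_mem _ hy)) h1
      exact ⟨y, List.mem_cons_of_mem _ hy, e⟩

theorem Pearly.pow_dvd {p n : ℕ} {G : Type u} [Group G] (h : Pearly p n G) : p ^ 5 ∣ Nat.card G := by
  have h1 := Nat.ordProj_dvd (Nat.card G) p
  rw [h.val] at h1
  exact (pow_dvd_pow p h.five).trans h1

/-- the exponent of `p` in a product of prime powers is at least 5 -/
theorem Pearly.mem {p n N : ℕ} {G : Type u} [Group G] (h : Pearly p n G) (hN : Nat.card G = N) (L : List (ℕ × ℕ))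
    (hL : ∀ x ∈ L, x.1.Prime) (hprod : N = (L.map fun x => x.1 ^ x.2).prod) : ∃ x ∈ L, p = x.1 ∧ x.1 ^ 5 ∣ N ∧ 3 ≤ x.1 := by
  have h1 := Pearly.pow_dvd h
  rw [hN] at h1
  obtain ⟨x, hx, rfl⟩ := mem_of_dvd h.prime L hL (hprod ▸ (dvd_pow_self p (by norm_num)).trans h1)
  exact ⟨x, hx, rfl, h1, h.odd⟩

theorem Pearly.false_of_list {p n N : ℕ} {G : Type u} [Group G] (h : Pearly p n G) (hN : Nat.card G = N)
    (L : List (ℕ × ℕ)) (hL : ∀ x ∈ L, x.1.Prime) (hprod : N = (L.map fun x => x.1 ^ x.2).prod)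
    (hch : ∀ x ∈ L, ¬ (x.1 ^ 5 ∣ N ∧ 3 ≤ x.1)) : False := by
  obtain ⟨x, hx, -, h2, h3⟩ := Pearly.mem h hN L hL hprod
  exact hch x hx ⟨h2, h3⟩

theorem Pearly.three_of_list {p n N : ℕ} {G : Type u} [Group G] (h : Pearly p n G) (hN : Nat.card G = N)
    (L : List (ℕ × ℕ)) (hL : ∀ x ∈ L, x.1.Prime) (hprod : N = (L.map fun x => x.1 ^ x.2).prod)
    (hch : ∀ x ∈ L, x.1 = 3 ∨ ¬ (x.1 ^ 5 ∣ N ∧ 3 ≤ x.1)) : p = 3 := by
  obtain ⟨x, hx, h1, h2, h3⟩ := Pearly.mem h hN L hL hprod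
  rcases hch x hx with h4 | h4
  · rw [h1, h4]
  · exact absurd ⟨h2, h3⟩ h4

section Orders

variable {p n : ℕ} {G : Type u} [Group G] (h : Pearly p n G)

include h

theorem m11 (hX : Spor.IsoM11 G) : False :=
  Pearly.false_of_list h (NotCT.Orders.m11 hX) [(2, 4), (3, 2), (5, 1), (11, 1)] (by norm_num) (by norm_num) (by norm_num)

theorem m12 (hX : Spor.IsoM12 G) : False :=
  Pearly.false_of_list h (NotCT.Orders.m12 hX) [(2, 6), (3, 3), (5, 1), (11, 1)] (by norm_num) (by norm_num) (by norm_num)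

theorem m22 (hX : Spor.IsoM22 G) : False :=
  Pearly.false_of_list h (NotCT.Orders.m22 hX) [(2, 7), (3, 2), (5, 1), (7, 1), (11, 1)] (by norm_num) (by norm_num)
    (by norm_num)

theorem m23 (hX : Spor.IsoM23 G) : False :=
  Pearly.false_of_list h (NotCT.Orders.m23 hX) [(2, 7), (3, 2), (5, 1), (7, 1), (11, 1), (23, 1)] (by norm_num)
    (by norm_num) (by norm_num)

theorem m24 (hX : Spor.IsoM24 G) : False :=
  Pearly.false_of_list h (NotCT.Orders.m24 hX) [(2, 10), (3, 3), (5, 1), (7, 1), (11, 1), (23, 1)] (by norm_num)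
    (by norm_num) (by norm_num)

theorem j1 (hX : Spor.IsoJ1 G) : False :=
  Pearly.false_of_list h (NotCT.Orders.j1 hX) [(2, 3), (3, 1), (5, 1), (7, 1), (11, 1), (19, 1)] (by norm_num)
    (by norm_num) (by norm_num)

theorem j2 (hX : Spor.IsoJ2 G) : False :=
  Pearly.false_of_list h (NotCT.Orders.j2 hX) [(2, 7), (3, 3), (5, 2), (7, 1)] (by norm_num) (by norm_num) (by norm_num)

theorem j4 (hX : Spor.IsoJ4 G) : False :=
  Pearly.false_of_list h (NotCT.Orders.j4 hX)
    [(2, 21), (3, 3), (5, 1), (7, 1), (11, 3), (23, 1), (29, 1), (31, 1), (37, 1), (43, 1)] (by norm_num)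
    (by norm_num) (by norm_num)

theorem hs (hX : Spor.IsoHS G) : False :=
  Pearly.false_of_list h (NotCT.Orders.hs hX) [(2, 9), (3, 2), (5, 3), (7, 1), (11, 1)] (by norm_num) (by norm_num)
    (by norm_num)

theorem he (hX : Spor.IsoHe G) : False :=
  Pearly.false_of_list h (NotCT.Orders.he hX) [(2, 10), (3, 3), (5, 2), (7, 3), (17, 1)] (by norm_num) (by norm_num)
    (by norm_num)

theorem ru (hX : Spor.IsoRu G) : False :=
  Pearly.false_of_list h (NotCT.Orders.ru hX) [(2, 14), (3, 3), (5, 3), (7, 1), (13, 1), (29, 1)] (by norm_num)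
    (by norm_num) (by norm_num)

theorem on (hX : Spor.IsoON G) : False :=
  Pearly.false_of_list h (NotCT.Orders.on hX) [(2, 9), (3, 4), (5, 1), (7, 3), (11, 1), (19, 1), (31, 1)] (by norm_num)
    (by norm_num) (by norm_num)

theorem tits (hX : Lie.IsoTits G) : False :=
  Pearly.false_of_list h (NotCT.Orders.tits hX) [(2, 11), (3, 3), (5, 2), (13, 1)] (by norm_num) (by norm_num)
    (by norm_num)

theorem three_j3 (hX : Spor.IsoJ3 G) : p = 3 :=
  Pearly.three_of_list h (NotCT.Orders.j3 hX) [(2, 7), (3, 5), (5, 1), (17, 1), (19, 1)] (by norm_num)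
    (by norm_num) (by norm_num)

theorem three_mcl (hX : Spor.IsoMcL G) : p = 3 :=
  Pearly.three_of_list h (NotCT.Orders.mcl hX) [(2, 7), (3, 6), (5, 3), (7, 1), (11, 1)] (by norm_num)
    (by norm_num) (by norm_num)

theorem three_suz (hX : Spor.IsoSuz G) : p = 3 :=
  Pearly.three_of_list h (NotCT.Orders.suz hX) [(2, 13), (3, 7), (5, 2), (7, 1), (11, 1), (13, 1)] (by norm_num)
    (by norm_num) (by norm_num)

theorem three_co3 (hX : Spor.IsoCo3 G) : p = 3 :=
  Pearly.three_of_list h (NotCT.Orders.co3 hX) [(2, 10), (3, 7), (5, 3), (7, 1), (11, 1), (23, 1)] (by norm_num)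
    (by norm_num) (by norm_num)

theorem three_co2 (hX : Spor.IsoCo2 G) : p = 3 :=
  Pearly.three_of_list h (NotCT.Orders.co2 hX) [(2, 18), (3, 6), (5, 3), (7, 1), (11, 1), (23, 1)] (by norm_num)
    (by norm_num) (by norm_num)

theorem three_co1 (hX : Spor.IsoCo1 G) : p = 3 :=
  Pearly.three_of_list h (NotCT.Orders.co1 hX) [(2, 21), (3, 9), (5, 4), (7, 2), (11, 1), (13, 1), (23, 1)]
    (by norm_num) (by norm_num) (by norm_num)

end Orders

/-! ### lifting double inversions -/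

section Lift

variable {p : ℕ} {L : Type u} {G : Type v} [Group L] [Group G]

theorem exists_lift (π : L →* G) (hπ : Function.Surjective π) (hk : Nat.Coprime p (Nat.card π.ker))
    {x : G} (hx : ∃ k : ℕ, x ^ p ^ k = 1) : ∃ y : L, π y = x ∧ ∃ k : ℕ, y ^ p ^ k = 1 := by
  obtain ⟨k, hx⟩ := hx
  obtain ⟨l, rfl⟩ := hπ x
  have h1 : l ^ p ^ k ∈ π.ker := by rw [MonoidHom.mem_ker, map_pow]; exact hx
  have h2 : (l ^ p ^ k) ^ Nat.card π.ker = 1 := by
    have h3 : (⟨l ^ p ^ k, h1⟩ : π.ker) ^ Nat.card π.ker = 1 := pow_card_eq_one'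
    exact congrArg Subtype.val h3
  have hcop : Nat.Coprime (p ^ k) (Nat.card π.ker) := Nat.Coprime.pow_left _ hk
  have hb := Nat.gcd_eq_gcd_ab (p ^ k) (Nat.card π.ker)
  rw [hcop, Nat.cast_one] at hb
  refine ⟨l ^ ((Nat.card π.ker : ℤ) * Nat.gcdB (p ^ k) (Nat.card π.ker)), ?_, k, ?_⟩
  · have h4 : (Nat.card π.ker : ℤ) * Nat.gcdB (p ^ k) (Nat.card π.ker) =
        1 + ((p ^ k : ℕ) : ℤ) * (-Nat.gcdA (p ^ k) (Nat.card π.ker)) := by linear_combination -hb
    rw [h4, map_zpow, zpow_add, zpow_one, zpow_mul, zpow_natCast, hx, one_zpow, mul_one]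
  · rw [← zpow_natCast, ← zpow_mul, mul_comm, zpow_mul, zpow_natCast, zpow_mul, zpow_natCast, h2, one_zpow]

theorem eq_of_lift (π : L →* G) (hc : π.ker ≤ Subgroup.center L) (hk : Nat.Coprime p (Nat.card π.ker))
    {a b : L} (ha : ∃ k : ℕ, a ^ p ^ k = 1) (hb : ∃ k : ℕ, b ^ p ^ k = 1) (hab : π a = π b) : a = b := by
  obtain ⟨k, hka⟩ := ha
  obtain ⟨l, hlb⟩ := hb
  have h1 : b⁻¹ * a ∈ π.ker := by rw [MonoidHom.mem_ker, map_mul, map_inv, hab, inv_mul_cancel]
  have h2 : ∀ x, b⁻¹ * a * x = x * (b⁻¹ * a) := fun x => (Subgroup.mem_center_iff.1 (hc h1) x).symm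
  have h3 : Commute b (b⁻¹ * a) := (h2 b).symm
  have h4 : a = b * (b⁻¹ * a) := by group
  have h5 : (b⁻¹ * a) ^ p ^ (k + l) = 1 := by
    have h6 : a ^ p ^ (k + l) = b ^ p ^ (k + l) * (b⁻¹ * a) ^ p ^ (k + l) := by
      conv_lhs => rw [h4]
      exact h3.mul_pow _
    rw [pow_add, pow_mul, hka, one_pow, mul_comm (p ^ k) (p ^ l), pow_mul b, hlb, one_pow, one_mul] at h6
    rw [pow_add, mul_comm (p ^ k) (p ^ l)]
    exact h6.symm
  have h7 : orderOf (b⁻¹ * a) ∣ p ^ (k + l) := orderOf_dvd_of_pow_eq_one h5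
  have h8 : orderOf (b⁻¹ * a) ∣ Nat.card π.ker := by
    have := orderOf_dvd_natCard (⟨b⁻¹ * a, h1⟩ : π.ker)
    rwa [← Subgroup.orderOf_coe] at this
  have h9 : orderOf (b⁻¹ * a) = 1 := Nat.eq_one_of_dvd_coprimes (Nat.Coprime.pow_left _ hk) h7 h8
  rw [orderOf_eq_one_iff] at h9
  rw [h4, h9, mul_one]

theorem pel_conj {x : L} (s : L) (hx : ∃ k : ℕ, x ^ p ^ k = 1) : ∃ k : ℕ, (s * x * s⁻¹) ^ p ^ k = 1 := by
  obtain ⟨k, hk⟩ := hx
  exact ⟨k, by rw [conj_pow, hk, mul_one, mul_inv_cancel]⟩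

theorem pel_inv {x : L} (hx : ∃ k : ℕ, x ^ p ^ k = 1) : ∃ k : ℕ, x⁻¹ ^ p ^ k = 1 := by
  obtain ⟨k, hk⟩ := hx
  exact ⟨k, by rw [inv_pow, hk, inv_one]⟩

/-- double inversions lift through central `p'`-kernels -/
theorem DoubleInv.lift (π : L →* G) (hπ : Function.Surjective π) (hc : π.ker ≤ Subgroup.center L)
    (hk : Nat.Coprime p (Nat.card π.ker)) (h : DoubleInv p G) : DoubleInv p L := by
  obtain ⟨x, y, s, t, hx, hy, hxp, hyp, hxy, h1, h2, h3, h4⟩ := h
  obtain ⟨x', rfl, hxp'⟩ := exists_lift π hπ hk hxp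
  obtain ⟨y', rfl, hyp'⟩ := exists_lift π hπ hk hyp
  obtain ⟨s', rfl⟩ := hπ s
  obtain ⟨t', rfl⟩ := hπ t
  refine ⟨x', y', s', t', fun e => hx (by rw [e, map_one]), fun e => hy (by rw [e, map_one]), hxp', hyp', ?_, ?_, ?_, ?_,
    ?_⟩
  · have := eq_of_lift π hc hk (pel_conj y'⁻¹ hxp') hxp' (by
      rw [map_mul, map_mul, map_inv, inv_inv, mul_assoc, hxy, inv_mul_cancel_left])
    calc x' * y' = y' * (y'⁻¹ * x' * (y'⁻¹)⁻¹) := by group
      _ = y' * x' := by rw [this]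
  · exact eq_of_lift π hc hk (pel_conj s' hxp') (pel_inv hxp') (by rw [map_mul, map_mul, map_inv, map_inv, h1])
  · have := eq_of_lift π hc hk (pel_conj s' hyp') hyp' (by
      rw [map_mul, map_mul, map_inv, h2, mul_inv_cancel_right])
    calc s' * y' = (s' * y' * s'⁻¹) * s' := by group
      _ = y' * s' := by rw [this]
  · have := eq_of_lift π hc hk (pel_conj t' hxp') hxp' (by
      rw [map_mul, map_mul, map_inv, h3, mul_inv_cancel_right])
    calc t' * x' = (t' * x' * t'⁻¹) * t' := by group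
      _ = x' * t' := by rw [this]
  · exact eq_of_lift π hc hk (pel_conj t' hyp') (pel_inv hyp') (by rw [map_mul, map_mul, map_inv, map_inv, h4])

end Lift

/-! ### the McLaughlin group and the Conway groups -/

open Equiv Equiv.Perm in
theorem dinv_A8 : DoubleInv 3 (alternatingGroup (Fin 8)) := by
  refine ⟨⟨c[(0 : Fin 8), 1, 2], mem_alternatingGroup.2 (by decide)⟩, ⟨c[(3 : Fin 8), 4, 5], mem_alternatingGroup.2 (by decide)⟩,
    ⟨c[(0 : Fin 8), 1] * c[(6 : Fin 8), 7], mem_alternatingGroup.2 (by decide)⟩,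
    ⟨c[(3 : Fin 8), 4] * c[(6 : Fin 8), 7], mem_alternatingGroup.2 (by decide)⟩, ?_, ?_, ⟨1, ?_⟩, ⟨1, ?_⟩, ?_, ?_, ?_, ?_,
    ?_⟩ <;> simp only [ne_eq, Subtype.ext_iff, Subgroup.coe_mul, Subgroup.coe_inv, Subgroup.coe_pow, Subgroup.coe_one] <;> decide

theorem card_two {C : Type u} [Group C] {z : C} (hz : z ≠ 1) {K : Subgroup C} (h : ∀ x, x ∈ K ↔ x = 1 ∨ x = z) :
    Nat.card K = 2 := by
  rw [Nat.card_eq_two_iff' (1 : K)]
  refine ⟨⟨z, (h z).2 (Or.inr rfl)⟩, fun e => hz (congrArg Subtype.val e), ?_⟩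
  rintro ⟨y, hy⟩ hy1
  rcases (h y).1 hy with h1 | h1
  · exact absurd (Subtype.ext h1) hy1
  · exact Subtype.ext h1

theorem dinv_mcl : DoubleInv 3 Spor.McL := by
  obtain ⟨-, -, -, ⟨T⟩⟩ := Cfsg.Agent.TypeM.FactsMcL.exists_mt_mcl
  obtain ⟨π, hπ, -⟩ := Cfsg.Agent.TypeM.CoverTools.exists_isCover_of T.K (by norm_num)
  have hker : ∀ x, x ∈ π.ker ↔ x = 1 ∨ x = T.K.z := fun x => by rw [MonoidHom.mem_ker]; exact hπ.ker x
  have hC : DoubleInv 3 (Subgroup.centralizer ({T.t} : Set Spor.McL)) := by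
    refine DoubleInv.lift π hπ.surj ?_ ?_ dinv_A8
    · intro x hx
      rw [Subgroup.mem_center_iff]
      intro g
      rcases (hker x).1 hx with rfl | rfl
      · rw [mul_one, one_mul]
      · exact hπ.z_comm g
    · rw [card_two hπ.z_ne hker]
      norm_num
  exact hC.map (Subgroup.centralizer ({T.t} : Set Spor.McL)).subtype fun g _ hg => Subtype.ext hg

theorem dinv_co3 : DoubleInv 3 Spor.Co3 :=
  dinv_mcl.map (Subgroup.inclusion (fun _ hx => hx.1 : Spor.McL ≤ Spor.Co3)) fun _ _ hg =>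
    Subgroup.inclusion_injective _ (hg.trans (map_one _).symm)

theorem dinv_co2 : DoubleInv 3 Spor.Co2 :=
  dinv_mcl.map (Subgroup.inclusion Omega.Quasithin.Row.McL.McL_le_Co2) fun _ _ hg =>
    Subgroup.inclusion_injective _ (hg.trans (map_one _).symm)

theorem dinv_co1 : DoubleInv 3 Spor.Co1 :=
  dinv_mcl.map Omega.Quasithin.Row.McL.toCo1 fun _ _ hg =>
    Omega.Quasithin.Row.McL.toCo1_injective (hg.trans (map_one _).symm)

/-! ### two commuting pairs of involutions with product of order 3 -/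

theorem dinv_of_edges {G : Type u} [Group G] {b f d e : G} (hb : b * b = 1) (hf : f * f = 1) (hd : d * d = 1)
    (he : e * e = 1) (h1 : (b * f) ^ 3 = 1) (h2 : (d * e) ^ 3 = 1) (hbf : b ≠ f) (hde : d ≠ e)
    (bd : b * d = d * b) (be : b * e = e * b) (fd : f * d = d * f) (fe : f * e = e * f) : DoubleInv 3 G := by
  have ib : b⁻¹ = b := inv_eq_of_mul_eq_one_left hb
  have iF : f⁻¹ = f := inv_eq_of_mul_eq_one_left hf
  have id' : d⁻¹ = d := inv_eq_of_mul_eq_one_left hd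
  have ie : e⁻¹ = e := inv_eq_of_mul_eq_one_left he
  refine ⟨b * f, d * e, b, d, ?_, ?_, ⟨1, by rwa [pow_one]⟩, ⟨1, by rwa [pow_one]⟩, ?_, ?_, ?_, ?_, ?_⟩
  · intro h
    apply hbf
    rw [mul_eq_one_iff_eq_inv, iF] at h
    exact h
  · intro h
    apply hde
    rw [mul_eq_one_iff_eq_inv, ie] at h
    exact h
  · calc b * f * (d * e) = b * (f * d) * e := by group
      _ = b * d * (f * e) := by rw [fd]; group
      _ = (d * b) * (e * f) := by rw [bd, fe]
      _ = d * (b * e) * f := by group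
      _ = d * e * (b * f) := by rw [be]; group
  · rw [mul_inv_rev, ib, iF, ← mul_assoc, hb, one_mul]
  · rw [← mul_assoc, bd, mul_assoc, be, mul_assoc]
  · rw [← mul_assoc, ← bd, mul_assoc, ← fd, mul_assoc]
  · rw [mul_inv_rev, id', ie, ← mul_assoc, hd, one_mul]

open Cfsg.Agent.Omega.Quasithin.Row.E27 Cfsg.Agent.SporRec.SuzPerm in
theorem dinv_suz : DoubleInv 3 Spor.Suz := by
  have hn : ∀ x : Spor.Suz.Gen, x ∈ Spor.coxNodes Spor.Suz.edges := by intro x; cases x <;> decide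
  have key : ∀ (x y : Spor.Suz.Gen) (i : ℕ) (hi : i < 1782),
      Nat.beq (app (tab x) i) (app (tab y) i) = false →
      (PresentedGroup.of x : Spor.Suz) ≠ PresentedGroup.of y := by
    intro x y i hi hne h
    have h1 := congrArg φ h
    have h2 : φ (PresentedGroup.of x) = gen x := φ_of x
    have h3 : φ (PresentedGroup.of y) = gen y := φ_of y
    rw [h2, h3] at h1
    have h4 := gen_val x ⟨i, hi⟩
    rw [h1, gen_val] at h4
    rw [← Bool.not_eq_true, Nat.beq_eq] at hne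
    exact hne h4.symm
  refine dinv_of_edges (b := PresentedGroup.of .b) (f := PresentedGroup.of .f) (d := PresentedGroup.of .d)
    (e := PresentedGroup.of .e) (cox_sq (hn _)) (cox_sq (hn _)) (cox_sq (hn _)) (cox_sq (hn _))
    (cox_three (hn _) (hn _) (by decide)) (cox_three (hn _) (hn _) (by decide)) ?_ ?_
    (cox_comm (hn _) (hn _) (by decide)) (cox_comm (hn _) (hn _) (by decide))
    (cox_comm (hn _) (hn _) (by decide)) (cox_comm (hn _) (hn _) (by decide))
  · exact key _ _ 1 (by norm_num) (by decide +kernel)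
  · exact key _ _ 7 (by norm_num) (by decide +kernel)

/-! ### `J₃` -/

section Alt6

open Equiv Equiv.Perm

def pu : Perm (Fin 6) := c[0, 1, 2]
def pv : Perm (Fin 6) := c[3, 4, 5]
def pw : Perm (Fin 6) := c[0, 3] * c[1, 4, 2, 5]

def au : alternatingGroup (Fin 6) := ⟨pu, mem_alternatingGroup.2 (by decide)⟩
def av : alternatingGroup (Fin 6) := ⟨pv, mem_alternatingGroup.2 (by decide)⟩
def aw : alternatingGroup (Fin 6) := ⟨pw, mem_alternatingGroup.2 (by decide)⟩

theorem aw_au : aw * au * aw⁻¹ = av := Subtype.ext (by decide)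
theorem aw_av : aw * av * aw⁻¹ = au⁻¹ := Subtype.ext (by decide)
theorem aw_sq : aw ^ 4 = 1 := Subtype.ext (by decide)
theorem aw_not : aw ^ 2 * au ≠ au * aw ^ 2 := fun h => absurd (congrArg Subtype.val h) (by decide)
theorem au_av : au * av = av * au := Subtype.ext (by decide)
theorem au3 : au ^ 3 = 1 := Subtype.ext (by decide)
theorem av3 : av ^ 3 = 1 := Subtype.ext (by decide)

/-- the Sylow 3-subgroup `⟨u, v⟩ = C(u) ∩ C(v)` -/
def P0 : Subgroup (alternatingGroup (Fin 6)) := Subgroup.centralizer {au, av}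

theorem mem_P0 {x : alternatingGroup (Fin 6)} : x ∈ P0 ↔ au * x = x * au ∧ av * x = x * av := by
  rw [P0, Subgroup.mem_centralizer_iff]
  simp

theorem perm_three : ∀ σ : Perm (Fin 6), pu * σ = σ * pu → pv * σ = σ * pv → σ ^ 3 = 1 := by decide +kernel

theorem P0_three (x : P0) : x ^ 3 = 1 := by
  obtain ⟨⟨x, hx'⟩, hx⟩ := x
  obtain ⟨h1, h2⟩ := mem_P0.1 hx
  exact Subtype.ext (Subtype.ext (perm_three x (congrArg Subtype.val h1) (congrArg Subtype.val h2)))

theorem pow_inj : ∀ i j k l : Fin 3, pu ^ (i : ℕ) * pv ^ (j : ℕ) = pu ^ (k : ℕ) * pv ^ (l : ℕ) → i = k ∧ j = l := by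
  decide +kernel

theorem card_P0 : 9 ≤ Nat.card P0 := by
  have hmem : ∀ i j : ℕ, au ^ i * av ^ j ∈ P0 := by
    intro i j
    rw [mem_P0]
    have c1 : Commute au av := au_av
    exact ⟨((Commute.refl au).pow_right i).mul_right (c1.pow_right j),
      ((c1.symm).pow_right i).mul_right ((Commute.refl av).pow_right j)⟩
  have h1 : Nat.card (Fin 3 × Fin 3) ≤ Nat.card P0 := by
    refine Nat.card_le_card_of_injective (fun x : Fin 3 × Fin 3 => (⟨_, hmem x.1 x.2⟩ : P0)) ?_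
    rintro ⟨i, j⟩ ⟨k, l⟩ h
    have h2 := congrArg (fun x : P0 => (((x : alternatingGroup (Fin 6))) : Perm (Fin 6))) h
    obtain ⟨h3, h4⟩ := pow_inj i j k l h2
    rw [h3, h4]
  simpa using h1

end Alt6

/-- a 3-subgroup of order 27 with an automorphism of order 4 -/
theorem false_of_map {n : ℕ} {G : Type u} [Group G] [Finite G] (h : Pearly 3 n G) (C : Subgroup G)
    (π : C →* alternatingGroup (Fin 6)) (hπ : Function.Surjective π) (hk : Nat.card π.ker = 3) : False := by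
  have : Fact (Nat.Prime 3) := ⟨Nat.prime_three⟩
  have hP0 : IsPGroup 3 P0 := fun x => ⟨1, by rw [pow_one]; exact P0_three x⟩
  have hkp : IsPGroup 3 π.ker := IsPGroup.of_card (n := 1) (by rw [hk, pow_one])
  have hR : IsPGroup 3 (P0.comap π) := hP0.comap_of_ker_isPGroup π hkp
  have hcard : 3 ^ 3 ≤ Nat.card (P0.comap π) := by
    have e1 := Subgroup.card_mul_index (P0.comap π)
    have e2 := Subgroup.card_mul_index P0
    have e3 : Nat.card C = 3 * Nat.card (alternatingGroup (Fin 6)) := by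
      rw [← Subgroup.card_mul_index π.ker, hk, Subgroup.index_ker, MonoidHom.range_eq_top.2 hπ, Subgroup.card_top]
    rw [Subgroup.index_comap_of_surjective _ hπ, e3, ← e2] at e1
    have hpos : 0 < P0.index := Nat.pos_of_ne_zero Subgroup.index_ne_zero_of_finite
    have e4 : Nat.card (P0.comap π) = 3 * Nat.card P0 :=
      Nat.eq_of_mul_eq_mul_right hpos (by rw [e1]; ring)
    have := card_P0
    omega
  have hR' : IsPGroup 3 ((P0.comap π).map C.subtype) := hR.map _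
  have hcard' : 3 ^ 3 ≤ Nat.card ((P0.comap π).map C.subtype) := by
    rwa [Subgroup.card_map_of_injective C.subtype_injective]
  obtain ⟨g, hg⟩ := hπ aw
  -- `w` normalizes `P0`
  have key : ∀ x : alternatingGroup (Fin 6), x ∈ P0 → aw * x * aw⁻¹ ∈ P0 := by
    intro x hx
    obtain ⟨h1, h2⟩ := mem_P0.1 hx
    have h3 : av * (aw * x * aw⁻¹) = aw * x * aw⁻¹ * av := by
      rw [← aw_au]
      calc aw * au * aw⁻¹ * (aw * x * aw⁻¹) = aw * (au * x) * aw⁻¹ := by group
        _ = aw * (x * au) * aw⁻¹ := by rw [h1]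
        _ = aw * x * aw⁻¹ * (aw * au * aw⁻¹) := by group
    have h4 : au⁻¹ * (aw * x * aw⁻¹) = aw * x * aw⁻¹ * au⁻¹ := by
      rw [← aw_av]
      calc aw * av * aw⁻¹ * (aw * x * aw⁻¹) = aw * (av * x) * aw⁻¹ := by group
        _ = aw * (x * av) * aw⁻¹ := by rw [h2]
        _ = aw * x * aw⁻¹ * (aw * av * aw⁻¹) := by group
    rw [mem_P0]
    refine ⟨?_, h3⟩
    calc au * (aw * x * aw⁻¹) = au * (aw * x * aw⁻¹ * au⁻¹) * au := by group
      _ = au * (au⁻¹ * (aw * x * aw⁻¹)) * au := by rw [h4]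
      _ = aw * x * aw⁻¹ * au := by group
  have key2 : ∀ (m : ℕ) (x : alternatingGroup (Fin 6)), x ∈ P0 → aw ^ m * x * (aw ^ m)⁻¹ ∈ P0 := by
    intro m
    induction m with
    | zero => intro x hx; simpa using hx
    | succ m ih =>
      intro x hx
      have := key _ (ih x hx)
      rw [pow_succ', mul_inv_rev]
      have e : aw * aw ^ m * x * ((aw ^ m)⁻¹ * aw⁻¹) = aw * (aw ^ m * x * (aw ^ m)⁻¹) * aw⁻¹ := by group
      rw [e]
      exact this
  have hg4 : aw⁻¹ = aw ^ 3 := by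
    rw [inv_eq_iff_mul_eq_one, ← pow_succ']
    exact aw_sq
  have hnorm : (g : G) ∈ Subgroup.normalizer (((P0.comap π).map C.subtype : Subgroup G) : Set G) := by
    have h1 : ∀ (m : ℕ) (y : G), y ∈ (P0.comap π).map C.subtype →
        (g : G) ^ m * y * ((g : G) ^ m)⁻¹ ∈ (P0.comap π).map C.subtype := by
      rintro m _ ⟨y, hy, rfl⟩
      refine ⟨g ^ m * y * (g ^ m)⁻¹, ?_, rfl⟩
      change π (g ^ m * y * (g ^ m)⁻¹) ∈ P0
      rw [map_mul, map_mul, map_inv, map_pow, hg]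
      exact key2 m _ hy
    rw [Subgroup.mem_normalizer_iff]
    intro y
    constructor
    · intro hy
      have := h1 1 y hy
      rwa [pow_one] at this
    · intro hy
      obtain ⟨z, hz, hzy⟩ := hy
      have hz' : π z ∈ P0 := hz
      refine ⟨g⁻¹ * z * g, ?_, ?_⟩
      · change π (g⁻¹ * z * g) ∈ P0
        have h2 := key2 3 _ hz'
        rw [← hg4, inv_inv] at h2
        rw [map_mul, map_mul, map_inv, hg]
        exact h2
      · change (g : G)⁻¹ * (z : G) * (g : G) = y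
        have h3 : (z : G) = g * y * (g : G)⁻¹ := hzy
        rw [h3]
        group
  obtain ⟨k, hk2⟩ := h.exists_pow hR' hcard' hnorm
  obtain ⟨x, hx⟩ := hπ au
  have hxR : (x : G) ∈ (P0.comap π).map C.subtype := by
    refine ⟨x, ?_, rfl⟩
    change π x ∈ P0
    rw [hx, mem_P0]
    exact ⟨rfl, au_av.symm⟩
  have h5 := (Subgroup.mem_centralizer_iff.1 hk2) _ hxR
  have h6 : x * g ^ ((3 - 1) * 3 ^ k) = g ^ ((3 - 1) * 3 ^ k) * x := Subtype.ext h5
  have h7 := congrArg π h6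
  rw [map_mul, map_mul, map_pow, hg, hx] at h7
  have h8 : aw ^ ((3 - 1) * 3 ^ k) = aw ^ 2 := by
    rw [pow_mul]
    change (aw ^ 2) ^ 3 ^ k = aw ^ 2
    have hodd : Odd (3 ^ k) := Odd.pow (by decide)
    obtain ⟨m, hm⟩ := hodd
    rw [hm, pow_succ, pow_mul, ← pow_mul aw 2 2, show 2 * 2 = 4 from rfl, aw_sq, one_pow, one_mul]
  rw [h8] at h7
  exact aw_not h7.symm

open Cfsg.Agent.CpAutJThree Cfsg.Agent.J3Type Subgroup in
theorem exists_map {G : Type u} [Group G] [Finite G] (h : Spor.IsoJ3 G) :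
    ∃ (C : Subgroup G) (π : C →* alternatingGroup (Fin 6)), Function.Surjective π ∧ Nat.card π.ker = 3 := by
  obtain ⟨hcard, hM, hone, -⟩ := base h
  obtain ⟨x, hx, -, hC⟩ := exc h
  have memC : ∀ a : G, a ∈ centralizer ({x} : Set G) ↔ a * x = x * a := fun a => mem_centralizer_singleton_iff
  let c : centralizer ({x} : Set G) := ⟨x, (memC x).2 rfl⟩
  have hc3 : orderOf c = 3 := by rw [← hx]; exact orderOf_mk _ _
  have hcc : ∀ a : centralizer ({x} : Set G), a * c = c * a := fun a => Subtype.ext ((memC a).1 a.2)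
  have hZn : (zpowers c).Normal := by
    constructor
    rintro n ⟨k, rfl⟩ g
    refine ⟨k, ?_⟩
    have h1 : Commute g c := hcc g
    have := h1.zpow_right k
    show c ^ k = g * c ^ k * g⁻¹
    rw [this.eq]; group
  have hHD8 := J3Type.Extra.hd8_quotient c hc3 hcc (hD_of_model hM hx)
  have hq : Nat.card (↥(centralizer ({x} : Set G)) ⧸ zpowers c) = 360 := by
    have := card_eq_card_quotient_mul_card_subgroup (zpowers c)
    rw [hC, Nat.card_zpowers, hc3] at this
    omega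
  have : Fact (Nat.Prime 2) := ⟨Nat.prime_two⟩
  obtain ⟨s', hs'⟩ := exists_prime_orderOf_dvd_card' (G := ↥(centralizer ({x} : Set G)) ⧸ zpowers c) 2
    (by rw [hq]; norm_num)
  have hsim := J3Type.Extra.isSimple hHD8 hs'
  obtain ⟨e⟩ := Cfsg.Agent.S0497.result hq
  refine ⟨centralizer ({x} : Set G), e.toMonoidHom.comp (QuotientGroup.mk' (zpowers c)), ?_, ?_⟩
  · exact e.surjective.comp (QuotientGroup.mk'_surjective _)
  · have hker : (e.toMonoidHom.comp (QuotientGroup.mk' (zpowers c))).ker = zpowers c := by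
      ext y
      rw [MonoidHom.mem_ker, MonoidHom.comp_apply]
      change e (QuotientGroup.mk' (zpowers c) y) = 1 ↔ _
      rw [MulEquiv.map_eq_one_iff, QuotientGroup.mk'_apply, QuotientGroup.eq_one_iff]
    rw [hker, Nat.card_zpowers, hc3]

/-! ### the rows -/

section Rows

variable {p n : ℕ} {G : Type u} [Group G] (h : Pearly p n G)

include h

theorem j3 [Finite G] (hX : Spor.IsoJ3 G) : False := by
  obtain rfl := three_j3 h hX
  obtain ⟨C, π, hπ, hk⟩ := exists_map hX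
  exact false_of_map h C π hπ hk

theorem mcl (hX : Spor.IsoMcL G) : False := by
  obtain rfl := three_mcl h hX
  obtain ⟨e⟩ := hX
  exact h.dinv (dinv_mcl.congr e.symm)

theorem co3 (hX : Spor.IsoCo3 G) : False := by
  obtain rfl := three_co3 h hX
  obtain ⟨e⟩ := hX
  exact h.dinv (dinv_co3.congr e.symm)

theorem co2 (hX : Spor.IsoCo2 G) : False := by
  obtain rfl := three_co2 h hX
  obtain ⟨e⟩ := hX
  exact h.dinv (dinv_co2.congr e.symm)

theorem co1 (hX : Spor.IsoCo1 G) : False := by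
  obtain rfl := three_co1 h hX
  obtain ⟨e⟩ := hX
  exact h.dinv (dinv_co1.congr e.symm)

theorem suz (hX : Spor.IsoSuz G) : False := by
  obtain rfl := three_suz h hX
  obtain ⟨e⟩ := hX
  exact h.dinv (dinv_suz.congr e.symm)

end Rows

end Cfsg.Agent.H269.ExoSpo
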