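import Cfsg.Agent.H14.CycU3

/-!
# The rank one groups `PSL₂(q)` and `PSU₃(q)` as permutation groups are perfect (helper269, for helper460)

`not_solvable_psl2`, `not_solvable_u3`, `trans_line`, `trans_u3`; `perfect_psl2`, `perfect_u3`.
-/

set_option autoImplicit false

namespace Cfsg.Agent.H269.NotSol

open Cfsg.Agent.FixBN
open scoped commutatorElement

theorem comm_le {G : Type*} [Group G] (L : Subgroup G) : ⁅L, L⁆ ≤ L := by
  rw [Subgroup.commutator_le]
  intro a ha b hb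
  exact mul_mem (mul_mem (mul_mem ha hb) (inv_mem ha)) (inv_mem hb)

theorem comm_conj {G : Type*} [Group G] {L : Subgroup G} {g x : G} (hg : g ∈ L) (hx : x ∈ ⁅L, L⁆) :
    g * x * g⁻¹ ∈ ⁅L, L⁆ := by
  have h1 : g * x * g⁻¹ = ⁅g, x⁆ * x := by rw [commutatorElement_def]; group
  rw [h1]
  exact mul_mem (Subgroup.commutator_mem_commutator hg (comm_le L hx)) hx

/-- a non-trivial perfect subgroup is not solvable -/
theorem not_solvable_of_perfect {G : Type*} [Group G] {L : Subgroup G} (h : L ≤ ⁅L, L⁆) (hne : L ≠ ⊥) :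
    ¬ Group.IsSolvable L := by
  intro hs
  have h1 : Nontrivial L := (Subgroup.nontrivial_iff_ne_bot L).2 hne
  have h2 : commutator L = ⊤ := by
    apply Subgroup.map_injective L.subtype_injective
    rw [commutator_def, Subgroup.map_commutator, ← MonoidHom.range_eq_map, Subgroup.range_subtype]
    exact le_antisymm (comm_le L) h
  exact absurd h2 (Group.IsSolvable.commutator_lt_top_of_nontrivial L).ne

/-! ### `PSL₂` -/

section Line

variable {F : Type*} [Field F]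

theorem tr_mem_L (a : F) : tr a ∈ ⨆ y, lineFam F y :=
  (le_iSup (lineFam F) none) (tr_mem_lineFam a)

theorem ntn_mem_L (a : F) : (ni * tr a * ni⁻¹ : Equiv.Perm (Option F)) ∈ ⨆ y, lineFam F y := by
  refine (le_iSup (lineFam F) (some 0)) (mem_lineFam_some.2 ⟨a, ?_⟩)
  rw [tr_zero, one_mul]

theorem ni_mem_L : (ni : Equiv.Perm (Option F)) ∈ ⨆ y, lineFam F y := by
  rw [ni_eq]
  exact mul_mem (mul_mem (tr_mem_L 1) (ntn_mem_L 1)) (tr_mem_L 1)

theorem toPt_mem_L (y : Option F) : toPt y ∈ ⨆ y, lineFam F y := by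
  rcases y with _ | s
  · exact one_mem _
  · exact mul_mem (tr_mem_L s) ni_mem_L

theorem dil_mem_L (s : F) : (ni * tr s⁻¹ * ni * tr s * ni : Equiv.Perm (Option F)) ∈ ⨆ y, lineFam F y :=
  mul_mem (mul_mem (mul_mem (mul_mem ni_mem_L (tr_mem_L _)) ni_mem_L) (tr_mem_L _)) ni_mem_L

theorem card_dvd [Finite F] {k : ℕ} (h : ∀ b : F, b ≠ 0 → b ^ k = 1) : Nat.card F - 1 ∣ k := by
  rw [← Nat.card_units, ← IsCyclic.exponent_eq_card]
  refine Monoid.exponent_dvd_of_forall_pow_eq_one fun u => Units.ext ?_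
  rw [Units.val_pow_eq_pow_val, Units.val_one]
  exact h u u.ne_zero

theorem exists_sq_ne_one [Finite F] (h : 4 ≤ Nat.card F) : ∃ s : F, s ≠ 0 ∧ s ^ 2 ≠ 1 := by
  by_contra hcon
  push Not at hcon
  have h1 := Nat.le_of_dvd (by norm_num) (card_dvd hcon)
  omega

theorem perfect_psl2 [Finite F] (h : 4 ≤ Nat.card F) : (⨆ y, lineFam F y) ≤ ⁅⨆ y, lineFam F y, ⨆ y, lineFam F y⁆ := by
  obtain ⟨s, hs, hs2⟩ := exists_sq_ne_one h
  have hs3 : s ^ 2 - 1 ≠ 0 := sub_ne_zero.2 hs2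
  have key : ∀ a : F, tr a ∈ ⁅⨆ y, lineFam F y, ⨆ y, lineFam F y⁆ := by
    intro a
    have h1 := Subgroup.commutator_mem_commutator (dil_mem_L s) (tr_mem_L (a / (s ^ 2 - 1)))
    rw [commutatorElement_def, dil_conj hs, inv_tr, tr_mul] at h1
    have h2 : s ^ 2 * (a / (s ^ 2 - 1)) + -(a / (s ^ 2 - 1)) = a := by
      field_simp
      ring
    rwa [h2] at h1
  refine iSup_le fun y => ?_
  intro g hg
  obtain ⟨a, rfl⟩ := mem_lineFam.1 hg
  exact comm_conj (toPt_mem_L y) (key a)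

theorem not_solvable_psl2 (F : Type*) [Field F] [Finite F] (h : 4 ≤ Nat.card F) :
    ¬ Group.IsSolvable ↥(⨆ y, lineFam F y) := by
  refine not_solvable_of_perfect (perfect_psl2 h) fun hb => ?_
  have h1 := tr_mem_L (1 : F)
  rw [hb, Subgroup.mem_bot] at h1
  have h2 := congrArg (fun g : Equiv.Perm (Option F) => g (some 0)) h1
  simp only [tr_some, zero_add] at h2
  exact one_ne_zero (Option.some_injective _ h2)

theorem trans_line (F : Type*) [Field F] (y z : Option F) : ∃ g ∈ ⨆ y, lineFam F y, g y = z := by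
  refine ⟨toPt z * (toPt y)⁻¹, mul_mem (toPt_mem_L z) (inv_mem (toPt_mem_L y)), ?_⟩
  have h1 : (toPt y)⁻¹ y = (none : Option F) := by
    rw [Equiv.Perm.inv_eq_iff_eq, toPt_apply]
  rw [Equiv.Perm.mul_apply, h1, toPt_apply]

end Line

/-! ### `PSU₃` -/

section U3

open Cfsg.Agent.FixBN.U3Model Cfsg.Agent.FixBN.U3Core Cfsg.Agent.FixBN.RankOneU3
  Cfsg.Agent.FixBN.U3One Cfsg.Agent.H14.CycU3

variable {F : Type*} [Field F] {σ : F →+* F} [H : Inv2 σ]

local notation "tl" => U3Model.tr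

/-- the trace is onto -/
theorem exists_trace_one (hσ : ∃ x, σ x ≠ x) : ∃ t : F, t + σ t = 1 := by
  obtain ⟨x, hx⟩ := hσ
  have h1 : ∃ t : F, t + σ t ≠ 0 := by
    by_contra hcon
    push Not at hcon
    apply hx
    have h2 := hcon 1
    rw [map_one] at h2
    have h3 : (2 : F) = 0 := by rw [← h2]; norm_num
    linear_combination hcon x - x * h3
  obtain ⟨t, ht⟩ := h1
  refine ⟨t / (t + σ t), ?_⟩
  rw [map_div₀, map_add, H.invol, add_comm (σ t) t, ← add_div, div_self ht]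

theorem exists_a (hσ : ∃ x, σ x ≠ x) (a : F) : ∃ x : Pt σ, x.a = a := by
  obtain ⟨t, ht⟩ := exists_trace_one hσ
  refine ⟨⟨a, -(a * σ a) * t, ?_⟩, rfl⟩
  rw [map_mul, map_neg, map_mul, H.invol]
  linear_combination (-(a * σ a)) * ht

/-- additive Hilbert 90 -/
theorem exists_sub (hσ : ∃ x, σ x ≠ x) {z : F} (hz : z + σ z = 0) : ∃ a : F, a - σ a = z := by
  obtain ⟨t, ht⟩ := exists_trace_one hσ
  refine ⟨z * t, ?_⟩
  rw [map_mul]
  linear_combination z * ht - (σ t) * hz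

/-- multiplicative Hilbert 90 and a count: the norm is onto -/
theorem exists_norm [Finite F] (hσ : ∃ x, σ x ≠ x) {r : F} (hr : σ r = r) : ∃ a, a * σ a = r := by
  by_cases hr0 : r = 0
  · exact ⟨0, by rw [hr0, zero_mul]⟩
  let s : Fˣ →* Fˣ := Units.map (σ : F →* F)
  have hs : ∀ u : Fˣ, ((s u : Fˣ) : F) = σ (u : F) := fun _ => rfl
  let d : Fˣ →* Fˣ := MonoidHom.id Fˣ / s
  let N : Fˣ →* Fˣ := MonoidHom.id Fˣ * s
  have hd : ∀ u, d u = u / s u := fun _ => rfl
  have hN : ∀ u, N u = u * s u := fun _ => rfl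
  have hss : ∀ u, s (s u) = u := fun u => Units.ext (H.invol _)
  have h1 : d.range = N.ker := by
    ext c
    rw [MonoidHom.mem_range, MonoidHom.mem_ker]
    constructor
    · rintro ⟨u, rfl⟩
      rw [hN, hd, map_div, hss, div_mul_div_cancel, div_self']
    · intro hc
      rw [hN] at hc
      have hc' : (c : F) * σ (c : F) = 1 := by
        rw [← hs, ← Units.val_mul, hc]; rfl
      have h2 : ∃ t : F, t + c * σ t ≠ 0 := by
        by_contra hcon
        push Not at hcon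
        obtain ⟨x, hx⟩ := hσ
        apply hx
        have h3 := hcon 1
        rw [map_one, mul_one] at h3
        have h4 : (c : F) = -1 := by linear_combination h3
        have h5 := hcon x
        rw [h4] at h5
        linear_combination -h5
      obtain ⟨t, ht⟩ := h2
      refine ⟨Units.mk0 _ ht, ?_⟩
      rw [hd, div_eq_iff_eq_mul]
      apply Units.ext
      rw [Units.val_mul, hs, Units.val_mk0, map_add, map_mul, H.invol]
      linear_combination (-t) * hc'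
  have h2 : N.range ≤ d.ker := by
    rintro _ ⟨u, rfl⟩
    rw [MonoidHom.mem_ker, hd, hN, map_mul, hss, mul_comm (s u) u, div_self']
  have h3 : Nat.card N.range = Nat.card d.ker := by
    have e1 := Subgroup.card_mul_index N.ker
    have e2 := Subgroup.card_mul_index d.ker
    rw [Subgroup.index_ker] at e1 e2
    rw [h1, ← e1, mul_comm] at e2
    exact (Nat.eq_of_mul_eq_mul_left Nat.card_pos e2).symm
  have h4 : N.range = d.ker := Subgroup.eq_of_le_of_card_ge h2 h3.ge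
  have h5 : Units.mk0 r hr0 ∈ d.ker := by
    rw [MonoidHom.mem_ker, hd, div_eq_one]
    exact Units.ext hr.symm
  rw [← h4] at h5
  obtain ⟨a, ha⟩ := h5
  refine ⟨a, ?_⟩
  have := congrArg Units.val ha
  rwa [hN, Units.val_mul, hs, Units.val_mk0] at this

theorem exists_b [Finite F] (hσ : ∃ x, σ x ≠ x) (b : F) : ∃ x : Pt σ, x.b = b := by
  obtain ⟨a, ha⟩ := exists_norm hσ (r := -(b + σ b)) (by rw [map_neg, map_add, H.invol, add_comm])
  exact ⟨⟨a, b, by rw [ha]; ring⟩, rfl⟩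

theorem jj_mem_L' [Finite F] (hσ : ∃ x, σ x ≠ x) : (jj : Equiv.Perm (Om σ)) ∈ ⨆ y, u3Fam σ y := by
  obtain ⟨x, hx⟩ := exists_b hσ (1 : F)
  have hx1 : x ≠ 1 := by
    rintro rfl
    rw [one_b] at hx
    exact zero_ne_one hx
  have h1 := dp_mul_jj_mem hx1
  have h2 : lam x = 1 := by
    unfold lam
    rw [hx, map_one, mul_one, div_one]
  have h3 : dp (lam x) (lam_ne_zero hx1) = (1 : Equiv.Perm (Om σ)) := by
    apply Equiv.ext
    rintro (_ | z)
    · rfl
    · change some (D (lam x) z) = some z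
      rw [h2, D_one']
  rwa [h3, one_mul] at h1

theorem dp_mem_L' [Finite F] (hσ : ∃ x, σ x ≠ x) {x : Pt σ} (hx : x ≠ 1) :
    dp (lam x) (lam_ne_zero hx) ∈ ⨆ y, u3Fam σ y := by
  have h1 := mul_mem (dp_mul_jj_mem hx) (jj_mem_L' hσ)
  rwa [mul_assoc, jj_mul_jj, mul_one] at h1

theorem toPt_mem_L' [Finite F] (hσ : ∃ x, σ x ≠ x) (y : Om σ) : RankOneU3.toPt y ∈ ⨆ y, u3Fam σ y := by
  rcases y with _ | x
  · exact one_mem _
  · exact mul_mem (tl_mem_L x) (jj_mem_L' hσ)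

/-- a torus element with a non-trivial ratio -/
theorem exists_lam [Finite F] (hσ : ∃ x, σ x ≠ x) {q : ℕ} (hq : Nat.card F = q ^ 2) (h3 : 3 ≤ q) :
    ∃ x : Pt σ, x ≠ 1 ∧ lam x ≠ 1 := by
  by_contra hcon
  push Not at hcon
  have h1 : ∀ b : F, b ≠ 0 → b ^ 3 = 1 := by
    intro b hb
    obtain ⟨x, hx⟩ := exists_b hσ b
    have hx1 : x ≠ 1 := by
      rintro rfl
      rw [one_b] at hx
      exact hb hx.symm
    have h2 := hcon x hx1
    unfold lam at h2
    rw [hx, div_eq_one_iff_eq hb] at h2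
    have h4 := congrArg σ h2
    rw [map_mul, H.invol] at h4
    have h5 : b * b ^ 3 = b * 1 := by
      calc b * b ^ 3 = (b * b) * (b * b) := by ring
        _ = b * 1 := by rw [h4, h2, mul_one]
    exact mul_left_cancel₀ hb h5
  have h2 := Nat.le_of_dvd (by norm_num) (card_dvd h1)
  rw [hq] at h2
  have h4 : 3 ^ 2 ≤ q ^ 2 := Nat.pow_le_pow_left h3 2
  omega

theorem perfect_u3 [Finite F] (hσ : ∃ x, σ x ≠ x) {q : ℕ} (hq : Nat.card F = q ^ 2) (h3 : 3 ≤ q) :
    (⨆ y, u3Fam σ y) ≤ ⁅⨆ y, u3Fam σ y, ⨆ y, u3Fam σ y⁆ := by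
  obtain ⟨x₀, hx₀, hl⟩ := exists_lam hσ hq h3
  have hl' : lam x₀ - 1 ≠ 0 := sub_ne_zero.2 hl
  -- the centre
  have kc : ∀ z : Pt σ, z.a = 0 → tl z ∈ ⁅⨆ y, u3Fam σ y, ⨆ y, u3Fam σ y⁆ := by
    intro z hz
    have hzb : z.b + σ z.b = 0 := by
      have := z.h
      rwa [hz, zero_mul, add_zero] at this
    obtain ⟨a, ha⟩ := exists_sub hσ hzb
    obtain ⟨x, hx⟩ := exists_a hσ a
    obtain ⟨y, hy⟩ := exists_a hσ (1 : F)
    have h1 := Subgroup.commutator_mem_commutator (tl_mem_L x) (tl_mem_L y)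
    rw [commutatorElement_def, tl_inv, tl_inv, tl_mul, tl_mul, tl_mul] at h1
    have h2 : x * y * x⁻¹ * y⁻¹ = z := by
      apply ext'
      · simp only [mul_a, inv_a, hz]; ring
      · have hxh := x.h
        have hyh := y.h
        simp only [mul_a, mul_b, inv_a, inv_b, map_add, map_neg, hx, hy, map_one, mul_one] at hxh hyh ⊢
        linear_combination ha + hxh + hyh
    rwa [h2] at h1
  have key : ∀ x : Pt σ, tl x ∈ ⁅⨆ y, u3Fam σ y, ⨆ y, u3Fam σ y⁆ := by
    intro x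
    obtain ⟨y, hy⟩ := exists_a hσ (x.a / (lam x₀ - 1))
    have h1 := Subgroup.commutator_mem_commutator (dp_mem_L' hσ hx₀) (tl_mem_L y)
    rw [commutatorElement_def, dp_tl, mul_inv_cancel_right, tl_inv, tl_mul] at h1
    have h2 : (D (lam x₀) y * y⁻¹).a = x.a := by
      rw [mul_a, D_a, inv_a, hy]
      field_simp
      ring
    have h4 : tl x = tl (D (lam x₀) y * y⁻¹) * tl ((D (lam x₀) y * y⁻¹)⁻¹ * x) := by
      rw [tl_mul, mul_inv_cancel_left]
    rw [h4]
    refine mul_mem h1 (kc _ ?_)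
    rw [mul_a, inv_a, h2]
    ring
  refine iSup_le fun y => ?_
  rintro _ ⟨a, rfl⟩
  exact comm_conj (toPt_mem_L' hσ y) (key a)

theorem not_solvable_u3 {F : Type*} [Field F] [Finite F] (σ : F →+* F) [Inv2 σ] (hσ : ∃ x, σ x ≠ x) {q : ℕ}
    (hq : Nat.card F = q ^ 2) (h3 : 3 ≤ q) : ¬ Group.IsSolvable ↥(⨆ y, u3Fam σ y) := by
  refine not_solvable_of_perfect (perfect_u3 hσ hq h3) fun hb => ?_
  obtain ⟨x, hx⟩ := exists_a hσ (1 : F)
  have h1 := tl_mem_L x
  rw [hb, Subgroup.mem_bot, ← tl_one] at h1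
  have h2 := tl_injective h1
  rw [h2, one_a] at hx
  exact zero_ne_one hx

theorem trans_u3 {F : Type*} [Field F] [Finite F] (σ : F →+* F) [Inv2 σ] (hσ : ∃ x, σ x ≠ x) (y z : Om σ) :
    ∃ g ∈ ⨆ y, u3Fam σ y, g y = z := by
  refine ⟨RankOneU3.toPt z * (RankOneU3.toPt y)⁻¹, mul_mem (toPt_mem_L' hσ z) (inv_mem (toPt_mem_L' hσ y)), ?_⟩
  have h1 : (RankOneU3.toPt y)⁻¹ y = (none : Om σ) := by
    rw [Equiv.Perm.inv_eq_iff_eq, U3One.toPt_apply]
  rw [Equiv.Perm.mul_apply, h1, U3One.toPt_apply]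

end U3

end Cfsg.Agent.H269.NotSol
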