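import Mathlib
import Cfsg.Prelude.Def_TwoFusion
import Cfsg.Prelude.Def_Transfer
import Cfsg.Prelude.Def_Classification2
import Cfsg.Prelude.Def_Exceptional
import Cfsg.Agent.S1250
import Cfsg.Agent.S0280
import Cfsg.Agent.H269.DirSimple
import Cfsg.Agent.SignalizersComponents.PCompCore

/-!
# Strongly closed 2-subgroups and Sylow subgroups of normal subgroups

Reductions of S3029 and S3030 to the theorem of Foote (S1252), taken here as the hypothesis `FooteStmt`.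
-/

set_option autoImplicit false
set_option linter.unusedSectionVars false

namespace Cfsg.Agent.H269

open Subgroup

universe u

/-- The statement of S1252. -/
def FooteStmt : Prop :=
  ∀ (X : Type u) [Group X] [Finite X] (S : Sylow 2 X) (A : Subgroup X),
    Cfsg.IsStronglyClosed A (S : Subgroup X) → Even (A.relIndex (Subgroup.normalClosure (A : Set X))) →
    (∀ N : Subgroup X, N.Normal → N ≠ ⊥ → Even ((A ⊓ N).relIndex N)) →
    A ≠ ⊥ ∧ ∃ (r : ℕ) (L : Fin r → Subgroup X),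
      (∀ i j, i ≠ j → ∀ a ∈ L i, ∀ b ∈ L j, a * b = b * a) ∧
      (∀ i, L i ⊓ (⨆ j ∈ {j | j ≠ i}, L j) = ⊥) ∧ (⨆ i, L i) = Subgroup.normalClosure (A : Set X) ∧
      (∀ i, IsSimpleGroup ↥(L i) ∧
        ((∃ (F : Type) (_ : Field F) (_ : Fintype F) (q : ℕ), Fintype.card F = q ^ 2 ∧ Even q ∧ 4 ≤ q ∧
          Nonempty (↥(L i) ≃* Cfsg.PSU 3 F q)) ∨ Cfsg.IsSuzuki ↥(L i))) ∧
      (∀ i, ∃ P : Sylow 2 ↥(L i), (A ⊓ L i) =
        ((Subgroup.center (P : Subgroup ↥(L i))).map (P : Subgroup ↥(L i)).subtype).map (L i).subtype)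

section Index

variable {G : Type u} [Group G] [Finite G]

theorem card_mul_relIndex {A B : Subgroup G} (h : A ≤ B) : Nat.card A * A.relIndex B = Nat.card B := by
  have h1 := (A.subgroupOf B).card_mul_index
  have h2 : Nat.card (A.subgroupOf B) = Nat.card A := Nat.card_congr (Subgroup.subgroupOfEquivOfLe h).toEquiv
  rw [h2] at h1
  exact h1

theorem card_inf_mul_card_map (N A : Subgroup G) [N.Normal] :
    Nat.card (A ⊓ N : Subgroup G) * Nat.card (A.map (QuotientGroup.mk' N)) = Nat.card A := by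
  have h1 := Subgroup.relIndex_ker A (QuotientGroup.mk' N)
  rw [QuotientGroup.ker_mk'] at h1
  rw [← h1, ← inf_relIndex_left]
  exact card_mul_relIndex inf_le_left

theorem map_inf_of_le {N M : Subgroup G} [N.Normal] (R : Subgroup G) (hNM : N ≤ M) :
    R.map (QuotientGroup.mk' N) ⊓ M.map (QuotientGroup.mk' N) = (R ⊓ M).map (QuotientGroup.mk' N) := by
  apply le_antisymm
  · rintro _ ⟨⟨x, hx, rfl⟩, ⟨y, hy, hxy⟩⟩
    refine ⟨x, ⟨hx, ?_⟩, rfl⟩
    have h1 : QuotientGroup.mk' N (y⁻¹ * x) = 1 := by rw [map_mul, map_inv, hxy, inv_mul_cancel]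
    have h2 : y⁻¹ * x ∈ N := (QuotientGroup.eq_one_iff _).1 h1
    have h3 := M.mul_mem hy (hNM h2)
    rwa [mul_inv_cancel_left] at h3
  · exact le_inf (map_mono inf_le_left) (map_mono inf_le_right)

/-- Multiplicativity of the indices `|M : R ∩ M|`. -/
theorem relIndex_mul {N M : Subgroup G} [N.Normal] (R : Subgroup G) (hNM : N ≤ M) :
    (R ⊓ M).relIndex M = ((R.map (QuotientGroup.mk' N) ⊓ M.map (QuotientGroup.mk' N)).relIndex
      (M.map (QuotientGroup.mk' N))) * ((R ⊓ N).relIndex N) := by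
  have h1 : Nat.card (R ⊓ M : Subgroup G) * (R ⊓ M).relIndex M = Nat.card M := card_mul_relIndex inf_le_right
  have h2 : Nat.card (R ⊓ N : Subgroup G) * (R ⊓ N).relIndex N = Nat.card N := card_mul_relIndex inf_le_right
  have h3 := card_inf_mul_card_map N M
  rw [inf_eq_right.2 hNM] at h3
  have h4 := card_inf_mul_card_map N (R ⊓ M)
  have h5 : R ⊓ M ⊓ N = R ⊓ N := by rw [inf_assoc, inf_eq_right.2 hNM]
  rw [h5] at h4
  have h6 : Nat.card (R.map (QuotientGroup.mk' N) ⊓ M.map (QuotientGroup.mk' N) : Subgroup (G ⧸ N)) *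
      (R.map (QuotientGroup.mk' N) ⊓ M.map (QuotientGroup.mk' N)).relIndex (M.map (QuotientGroup.mk' N)) =
      Nat.card (M.map (QuotientGroup.mk' N)) := card_mul_relIndex inf_le_right
  set r3 := (R.map (QuotientGroup.mk' N) ⊓ M.map (QuotientGroup.mk' N)).relIndex (M.map (QuotientGroup.mk' N))
    with hr3
  rw [map_inf_of_le R hNM] at h6
  have h7 : 0 < Nat.card (R ⊓ M : Subgroup G) := Nat.card_pos
  apply Nat.eq_of_mul_eq_mul_left h7
  rw [h1, ← h3, ← h6, ← h2]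
  calc Nat.card (R ⊓ N : Subgroup G) * (R ⊓ N).relIndex N *
        (Nat.card ((R ⊓ M).map (QuotientGroup.mk' N)) * r3) =
      (Nat.card (R ⊓ N : Subgroup G) * Nat.card ((R ⊓ M).map (QuotientGroup.mk' N))) *
        (r3 * (R ⊓ N).relIndex N) := by ring
    _ = _ := by rw [h4]

/-- A normal subgroup `N` maximal with `|N : R ∩ N|` odd. -/
theorem exists_maximal_normal (R : Subgroup G) :
    ∃ N : Subgroup G, ∃ _ : N.Normal, Odd ((R ⊓ N).relIndex N) ∧
      ∀ M : Subgroup (G ⧸ N), M.Normal → M ≠ ⊥ → Even ((R.map (QuotientGroup.mk' N) ⊓ M).relIndex M) := by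
  obtain ⟨N, hN, hmax⟩ := Set.Finite.exists_maximalFor (fun N : Subgroup G => Nat.card N)
    {N : Subgroup G | N.Normal ∧ Odd ((R ⊓ N).relIndex N)} (Set.toFinite _)
    ⟨⊥, inferInstance, by rw [relIndex_bot_right]; exact odd_one⟩
  obtain ⟨hNn, hNo⟩ := hN
  refine ⟨N, hNn, hNo, ?_⟩
  intro M hMn hMne
  by_contra hodd
  rw [Nat.not_even_iff_odd] at hodd
  set M' : Subgroup G := M.comap (QuotientGroup.mk' N) with hM'
  have hM'n : M'.Normal := hMn.comap _
  have hNM' : N ≤ M' := by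
    intro x hx
    show QuotientGroup.mk' N x ∈ M
    have : QuotientGroup.mk' N x = 1 := (QuotientGroup.eq_one_iff x).2 hx
    rw [this]
    exact M.one_mem
  have hmap : M'.map (QuotientGroup.mk' N) = M := map_comap_eq_self_of_surjective (QuotientGroup.mk'_surjective N) M
  have h1 := relIndex_mul R hNM'
  rw [hmap] at h1
  have h2 : Odd ((R ⊓ M').relIndex M') := by
    rw [h1]; exact hodd.mul hNo
  have h3 := hmax ⟨hM'n, h2⟩ (Subgroup.card_le_of_le hNM')
  have h4 : N = M' := Subgroup.eq_of_le_of_card_ge hNM' h3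
  apply hMne
  rw [← hmap, ← h4]
  rw [eq_bot_iff]
  rintro _ ⟨x, hx, rfl⟩
  exact mem_bot.2 ((QuotientGroup.eq_one_iff x).2 hx)

/-- The image of the Sylow subgroup. -/
theorem stronglyClosed_quotient {R : Subgroup G} {P : Sylow 2 G} (hR : Cfsg.IsStronglyClosed R (P : Subgroup G))
    (N : Subgroup G) [N.Normal] : ∃ P' : Sylow 2 (G ⧸ N),
      Cfsg.IsStronglyClosed (R.map (QuotientGroup.mk' N)) (P' : Subgroup (G ⧸ N)) := by
  refine ⟨P.mapSurjective (QuotientGroup.mk'_surjective N), ?_⟩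
  rw [Sylow.coe_mapSurjective]
  exact Cfsg.Agent.S1250.result P R hR N

end Index

section Factors

theorem nonab_of_four_dvd {X : Type*} [Group X] [Finite X] (hs : IsSimpleGroup X) (h4 : 4 ∣ Nat.card X) :
    ∃ a b : X, a * b ≠ b * a := by
  by_contra hcon
  push Not at hcon
  let _ : CommGroup X := { (inferInstance : Group X) with mul_comm := hcon }
  have hp : (Nat.card X).Prime := IsSimpleGroup.prime_card
  have h2 : (2 : ℕ) ∣ Nat.card X := (by norm_num : (2 : ℕ) ∣ 4).trans h4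
  have h3 : Nat.card X = 2 := ((Nat.prime_dvd_prime_iff_eq Nat.prime_two hp).1 h2).symm
  rw [h3] at h4
  revert h4
  decide

theorem four_dvd_psu {F : Type} [Field F] [Fintype F] {q : ℕ} (hF : Fintype.card F = q ^ 2) (hq : Even q) :
    4 ∣ Nat.card (Cfsg.PSU 3 F q) := by
  have h := Cfsg.Agent.S0280.result hF 3 (by norm_num)
  obtain ⟨m, hm⟩ := hq
  have h1 : 4 ∣ Nat.gcd 3 (q + 1) * ((q + 1) * Nat.card (Cfsg.PSU 3 F q)) := by
    rw [h]
    apply Dvd.dvd.mul_right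
    rw [hm, ← two_mul]
    exact ⟨2 * m ^ 3, by ring⟩
  have hodd : Nat.Coprime 4 (q + 1) := by
    have h2 : Odd (q + 1) := by rw [hm]; exact ⟨m, by ring⟩
    have h3 : Nat.Coprime (2 ^ 2) (q + 1) := Nat.Coprime.pow_left 2 (Nat.coprime_two_left.2 h2)
    exact h3
  have hodd2 : Nat.Coprime 4 (Nat.gcd 3 (q + 1)) := hodd.coprime_dvd_right (Nat.gcd_dvd_right _ _)
  exact hodd.dvd_of_dvd_mul_left (hodd2.dvd_of_dvd_mul_left h1)

theorem four_dvd_suzuki {X : Type*} [Group X] (h : Cfsg.IsSuzuki X) : 4 ∣ Nat.card X := by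
  obtain ⟨-, m, hm, hc⟩ := h
  rw [hc]
  apply Dvd.dvd.mul_right
  apply Dvd.dvd.mul_right
  refine ⟨(2 ^ (2 * m)) ^ 2, ?_⟩
  rw [pow_succ]
  ring

theorem not_three_dvd_suzuki {X : Type*} [Group X] (h : Cfsg.IsSuzuki X) : ¬ 3 ∣ Nat.card X := by
  obtain ⟨-, m, hm, hc⟩ := h
  rw [hc]
  have h2 : 2 ^ (2 * m + 1) % 3 = 2 := by
    rw [pow_succ, pow_mul, Nat.mul_mod, Nat.pow_mod]
    norm_num
  obtain ⟨k, hk⟩ : ∃ k, 2 ^ (2 * m + 1) = 3 * k + 2 := ⟨2 ^ (2 * m + 1) / 3, by omega⟩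
  rw [hk]
  have h3 : 3 * k + 2 - 1 = 3 * k + 1 := by omega
  rw [h3]
  intro hd
  have h4 : (3 * k + 2) ^ 2 * ((3 * k + 2) ^ 2 + 1) * (3 * k + 1) % 3 = 2 := by
    have h5 : (3 * k + 2) ^ 2 * ((3 * k + 2) ^ 2 + 1) * (3 * k + 1) =
      3 * (81 * k ^ 5 + 243 * k ^ 4 + 297 * k ^ 3 + 183 * k ^ 2 + 56 * k + 6) + 2 + 0 * k := by ring
    omega
  omega

end Factors

end Cfsg.Agent.H269
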