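import Mathlib
import Cfsg.Agent.H269.StrongSylow

/-!
# Minimal strongly closed 2-subgroups

From the theorem of Foote (`FooteStmt`): a minimal strongly closed 2-subgroup is elementary abelian or a Sylow
2-subgroup of its normal closure.
-/

set_option autoImplicit false
set_option linter.unusedSectionVars false

namespace Cfsg.Agent.H269

open Subgroup

universe u

section Comp

variable {X : Type u} [Group X] [Finite X] {r : ℕ} {L : Fin r → Subgroup X} {K : Subgroup X}

theorem DirSimple.isSubnormal (h : DirSimple r L K) (hK : K.Normal) (i : Fin r) : (L i).IsSubnormal := by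
  refine IsSubnormal.step _ _ (h.le i) (Normal.isSubnormal hK) ?_
  refine ⟨fun x hx g => ?_⟩
  rw [mem_subgroupOf] at hx ⊢
  exact h.conj_mem g.2 i hx

/-- Components of elements of a Sylow 2-subgroup lie in it. -/
theorem DirSimple.comp_mem_sylow (h : DirSimple r L K) (hK : K.Normal) (P : Sylow 2 X) (i : Fin r) {a b : X}
    (ha : a ∈ L i) (hb : b ∈ centralizer (L i : Set X)) (hab : a * b ∈ (P : Subgroup X)) : a ∈ (P : Subgroup X) := by
  have hcomm : Commute a b := mem_centralizer_iff.1 hb a ha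
  -- `a` is a 2-element
  obtain ⟨k, hk⟩ := P.isPGroup' ⟨a * b, hab⟩
  have hk' : (a * b) ^ 2 ^ k = 1 := by
    have := congrArg Subtype.val hk
    simpa using this
  have ha2 : a ^ 2 ^ k = 1 := by
    apply h.inf_centralizer i (pow_mem ha _)
    rw [hcomm.mul_pow] at hk'
    rw [mul_eq_one_iff_eq_inv.1 hk']
    exact inv_mem (pow_mem hb _)
  set T : Subgroup X := (P : Subgroup X) ⊓ L i with hT
  have hTi : ¬ 2 ∣ T.relIndex (L i) := by
    have h1 := SignalizersComponents.PCompCore.relIndex_dvd_index_of_subnormal (P : Subgroup X) (h.isSubnormal hK i)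
    intro hd
    rw [hT, inf_relIndex_right] at hd
    exact P.not_dvd_index (hd.trans h1)
  have hconj : ∀ y ∈ T, a * y * a⁻¹ ∈ T := by
    intro y hy
    have h1 : a * y * a⁻¹ = (a * b) * y * (a * b)⁻¹ := by
      have h2 : y * b = b * y := mem_centralizer_iff.1 hb y hy.2
      calc a * y * a⁻¹ = a * (y * b) * b⁻¹ * a⁻¹ := by group
        _ = (a * b) * y * (a * b)⁻¹ := by rw [h2]; group
    refine ⟨?_, (L i).mul_mem ((L i).mul_mem ha hy.2) ((L i).inv_mem ha)⟩
    rw [h1]
    exact (P : Subgroup X).mul_mem ((P : Subgroup X).mul_mem hab hy.1) ((P : Subgroup X).inv_mem hab)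
  have haN : zpowers a ≤ normalizer (T : Set X) := by
    rw [zpowers_le, mem_normalizer_iff_map_conj_eq]
    apply SetLike.coe_injective
    refine Set.eq_of_subset_of_ncard_le ?_ ?_ (Set.toFinite _)
    · rintro _ ⟨e, he, rfl⟩
      exact hconj e he
    · have h1 : ((T.map (MulAut.conj a).toMonoidHom : Subgroup X) : Set X) = (MulAut.conj a) '' (T : Set X) := rfl
      have h2 : Set.ncard ((MulAut.conj a) '' (T : Set X)) = Set.ncard (T : Set X) :=
        Set.ncard_image_of_injective _ (MulAut.conj a).injective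
      exact h2.symm.le
  have hz : IsPGroup 2 (zpowers a) := by
    have h1 : Nat.card (zpowers a) ∣ 2 ^ k := by
      rw [Nat.card_zpowers]
      exact orderOf_dvd_of_pow_eq_one ha2
    obtain ⟨m, -, hm⟩ := (Nat.dvd_prime_pow Nat.prime_two).1 h1
    exact IsPGroup.of_card hm
  have hTp : IsPGroup 2 T := P.isPGroup'.to_le inf_le_left
  have hB : IsPGroup 2 (zpowers a ⊔ T : Subgroup X) := hz.to_sup_of_normal_right' hTp haN
  have hBL : zpowers a ⊔ T ≤ L i := sup_le (zpowers_le.2 ha) inf_le_right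
  have h3 : T.relIndex (zpowers a ⊔ T) * (zpowers a ⊔ T).relIndex (L i) = T.relIndex (L i) :=
    relIndex_mul_relIndex _ _ _ le_sup_right hBL
  obtain ⟨n, hn⟩ := hB.exists_card_eq
  obtain ⟨m, hm, hm'⟩ := (Nat.dvd_prime_pow Nat.prime_two).1
    (hn ▸ relIndex_dvd_card T (zpowers a ⊔ T) : T.relIndex (zpowers a ⊔ T) ∣ 2 ^ n)
  have h5 : m = 0 := by
    by_contra hk0
    apply hTi
    rw [← h3, hm']
    exact Dvd.dvd.mul_right (dvd_pow_self 2 hk0) _
  rw [h5, pow_zero] at hm'
  exact (relIndex_eq_one.1 hm' (le_sup_left (b := T) (mem_zpowers a))).1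

/-- The elements of `A ≤ K` all of whose components lie in `A`. -/
def compSub (h : DirSimple r L K) (A : Subgroup X) (hAK : A ≤ K) : Subgroup X where
  carrier := {x | x ∈ A ∧ ∀ i, ∀ a ∈ L i, ∀ b ∈ centralizer (L i : Set X), x = a * b → a ∈ A}
  one_mem' := by
    refine ⟨one_mem _, fun i a ha b hb he => ?_⟩
    have h1 : a = 1 := by
      apply h.inf_centralizer i ha
      rw [eq_comm, mul_eq_one_iff_eq_inv] at he
      rw [he]
      exact inv_mem hb
    rw [h1]
    exact one_mem _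
  mul_mem' := by
    rintro x y ⟨hx, hx'⟩ ⟨hy, hy'⟩
    refine ⟨mul_mem hx hy, fun i a ha b hb he => ?_⟩
    obtain ⟨a₁, ha₁, b₁, hb₁, he₁⟩ := h.decomp (hAK hx) i
    obtain ⟨a₂, ha₂, b₂, hb₂, he₂⟩ := h.decomp (hAK hy) i
    have h1 : a = a₁ * a₂ := by
      apply h.decomp_unique i ha (mul_mem ha₁ ha₂) hb (mul_mem hb₁.2 hb₂.2)
      have h2 : a₂ * b₁ = b₁ * a₂ := mem_centralizer_iff.1 hb₁.2 a₂ ha₂
      calc a * b = x * y := he.symm
        _ = a₁ * (b₁ * a₂) * b₂ := by rw [he₁, he₂]; group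
        _ = a₁ * a₂ * (b₁ * b₂) := by rw [← h2]; group
    rw [h1]
    exact mul_mem (hx' i a₁ ha₁ b₁ hb₁.2 he₁) (hy' i a₂ ha₂ b₂ hb₂.2 he₂)
  inv_mem' := by
    rintro x ⟨hx, hx'⟩
    refine ⟨inv_mem hx, fun i a ha b hb he => ?_⟩
    have h1 : x = a⁻¹ * b⁻¹ := by
      have h2 : a * b = b * a := mem_centralizer_iff.1 hb a ha
      rw [← inv_inv x, he, h2, mul_inv_rev]
    have h3 := hx' i a⁻¹ (inv_mem ha) b⁻¹ (inv_mem hb) h1
    rw [← inv_inv a]
    exact inv_mem h3

theorem mem_compSub (h : DirSimple r L K) {A : Subgroup X} (hAK : A ≤ K) {x : X} :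
    x ∈ compSub h A hAK ↔ x ∈ A ∧ ∀ i, ∀ a ∈ L i, ∀ b ∈ centralizer (L i : Set X), x = a * b → a ∈ A := Iff.rfl

/-- `compSub` is commutative when all `A ⊓ L i` are. -/
theorem compSub_comm (h : DirSimple r L K) {A : Subgroup X} (hAK : A ≤ K)
    (hab : ∀ i, ∀ a ∈ A ⊓ L i, ∀ b ∈ A ⊓ L i, a * b = b * a) {x y : X} (hx : x ∈ compSub h A hAK)
    (hy : y ∈ compSub h A hAK) : x * y = y * x := by
  have hz : (y * x)⁻¹ * (x * y) = 1 := by
    apply h.eq_one_of_centralizes
      (mul_mem (inv_mem (mul_mem (hAK hy.1) (hAK hx.1))) (mul_mem (hAK hx.1) (hAK hy.1)))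
    intro i
    obtain ⟨a, ha, b, hb, he⟩ := h.decomp (hAK hx.1) i
    obtain ⟨c, hc, d, hd, he'⟩ := h.decomp (hAK hy.1) i
    have haA := hx.2 i a ha b hb.2 he
    have hcA := hy.2 i c hc d hd.2 he'
    have hac := hab i a ⟨haA, ha⟩ c ⟨hcA, hc⟩
    -- `x y` and `a c` act in the same way on `L i`
    have h1 : x * y = (a * c) * (b * d) := by
      have h2 : c * b = b * c := mem_centralizer_iff.1 hb.2 c hc
      calc x * y = a * (b * c) * d := by rw [he, he']; group
        _ = a * c * (b * d) := by rw [← h2]; group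
    have h3 : y * x = (a * c) * (d * b) := by
      have h2 : a * d = d * a := mem_centralizer_iff.1 hd.2 a ha
      calc y * x = c * (d * a) * b := by rw [he, he']; group
        _ = c * a * (d * b) := by rw [← h2]; group
        _ = _ := by rw [hac]
    have h4 : (y * x)⁻¹ * (x * y) = (d * b)⁻¹ * (b * d) := by
      rw [h1, h3]; group
    rw [h4]
    exact mul_mem (inv_mem (mul_mem hd.2 hb.2)) (mul_mem hb.2 hd.2)
  have := inv_mul_eq_one.1 hz
  exact this.symm

/-- `compSub` is strongly closed. -/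
theorem compSub_strong (h : DirSimple r L K) (hK : K.Normal) {A : Subgroup X} (hAK : A ≤ K) (P : Sylow 2 X)
    (hA : Cfsg.IsStronglyClosed A (P : Subgroup X)) {x g : X} (hx : x ∈ compSub h A hAK)
    (hg : g * x * g⁻¹ ∈ (P : Subgroup X)) : g * x * g⁻¹ ∈ compSub h A hAK := by
  refine ⟨hA.2 x hx.1 g hg, fun i a ha b hb he => ?_⟩
  obtain ⟨j, hj⟩ := h.exists_conj hK g⁻¹ i
  have ha' : g⁻¹ * a * g ∈ L j := by
    rw [← hj]
    exact ⟨a, ha, by show g⁻¹ * a * g⁻¹⁻¹ = _; rw [inv_inv]⟩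
  have hb' : g⁻¹ * b * g ∈ centralizer (L j : Set X) := by
    rw [mem_centralizer_iff]
    intro l hl
    rw [← hj] at hl
    obtain ⟨m, hm, rfl⟩ := hl
    have h1 : m * b = b * m := mem_centralizer_iff.1 hb m hm
    show g⁻¹ * m * g⁻¹⁻¹ * (g⁻¹ * b * g) = g⁻¹ * b * g * (g⁻¹ * m * g⁻¹⁻¹)
    calc g⁻¹ * m * g⁻¹⁻¹ * (g⁻¹ * b * g) = g⁻¹ * (m * b) * g := by group
      _ = g⁻¹ * (b * m) * g := by rw [h1]
      _ = _ := by group
  have h2 : x = (g⁻¹ * a * g) * (g⁻¹ * b * g) := by
    calc x = g⁻¹ * (g * x * g⁻¹) * g := by group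
      _ = g⁻¹ * (a * b) * g := by rw [he]
      _ = _ := by group
  have h3 := hx.2 j _ ha' _ hb' h2
  have h4 : a ∈ (P : Subgroup X) := by
    apply h.comp_mem_sylow hK P i ha hb
    rw [← he]; exact hg
  have h5 : a = g * (g⁻¹ * a * g) * g⁻¹ := by group
  rw [h5]
  apply hA.2 _ h3 g
  rw [← h5]
  exact h4

/-- `A ⊓ L i` lies in `compSub`. -/
theorem inf_le_compSub (h : DirSimple r L K) {A : Subgroup X} (hAK : A ≤ K) (i : Fin r) :
    A ⊓ L i ≤ compSub h A hAK := by
  rintro x ⟨hxA, hxL⟩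
  refine ⟨hxA, fun j a ha b hb he => ?_⟩
  by_cases hj : j = i
  · subst hj
    have h1 : a = x := h.decomp_unique j ha hxL hb (one_mem _) (by rw [mul_one]; exact he.symm)
    rw [h1]; exact hxA
  · have h1 : a = 1 := by
      apply h.decomp_unique j ha (one_mem _) hb (b' := x) _ (by rw [one_mul]; exact he.symm)
      rw [mem_centralizer_iff]
      intro y hy
      exact h.comm j i hj y hy x hxL
    rw [h1]; exact one_mem _

end Comp

/-- **Minimal strongly closed 2-subgroups.** -/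
theorem elementary_or_sylow (hF : FooteStmt.{u}) {G : Type u} [Group G] [Finite G] (S₀ : Subgroup G)
    (hne : S₀ ≠ ⊥) (P : Sylow 2 G) (hsc : Cfsg.IsStronglyClosed S₀ (P : Subgroup G))
    (hmin : ∀ S₁ : Subgroup G, S₁ ≤ S₀ → S₁ ≠ ⊥ → (∃ P : Sylow 2 G, Cfsg.IsStronglyClosed S₁ (P : Subgroup G)) →
      S₁ = S₀) :
    Cfsg.IsElementaryAbelian 2 S₀ ∨ ¬ 2 ∣ S₀.relIndex (Subgroup.normalClosure (S₀ : Set G)) := by
  obtain ⟨N, hN, hNo, hmax⟩ := exists_maximal_normal S₀
  by_cases hbot : S₀ ⊓ N = ⊥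
  · left
    set π := QuotientGroup.mk' N with hπ
    have hker : ∀ x ∈ S₀, π x = 1 → x = 1 := by
      intro x hx hx1
      have h1 : x ∈ S₀ ⊓ N := ⟨hx, (QuotientGroup.eq_one_iff x).1 hx1⟩
      rw [hbot, mem_bot] at h1
      exact h1
    have hAne : S₀.map π ≠ ⊥ := by
      intro h
      apply hne
      rw [eq_bot_iff]
      intro x hx
      have h1 : π x ∈ S₀.map π := ⟨x, hx, rfl⟩
      rw [h, mem_bot] at h1
      exact mem_bot.2 (hker x hx h1)
    set A := S₀.map π with hA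
    let P' : Sylow 2 (G ⧸ N) := P.mapSurjective (QuotientGroup.mk'_surjective N)
    have hP'c : (P' : Subgroup (G ⧸ N)) = (P : Subgroup G).map π := Sylow.coe_mapSurjective _ _
    have hAP' : Cfsg.IsStronglyClosed A (P' : Subgroup (G ⧸ N)) := by
      rw [hP'c]
      exact Cfsg.Agent.S1250.result P S₀ hsc N
    have hAK : A ≤ normalClosure (A : Set (G ⧸ N)) := le_normalClosure
    have hev : Even (A.relIndex (normalClosure (A : Set (G ⧸ N)))) := by
      have h1 := hmax (normalClosure (A : Set (G ⧸ N))) inferInstance (by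
        intro hb
        apply hAne
        rw [eq_bot_iff, ← hb]
        exact hAK)
      rwa [inf_eq_left.2 hAK] at h1
    obtain ⟨-, r, L, hcomm, hind, hsup, hsimp, hcen⟩ := hF (G ⧸ N) P' A hAP' hev hmax
    have h4 : ∀ i, 4 ∣ Nat.card (L i) := by
      intro i
      rcases (hsimp i).2 with ⟨F, _, _, q, hFq, hq, hq4, ⟨e'⟩⟩ | hsz
      · rw [Nat.card_congr e'.toEquiv]
        exact four_dvd_psu hFq hq
      · exact four_dvd_suzuki hsz
    have D : DirSimple r L (normalClosure (A : Set (G ⧸ N))) :=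
      ⟨hcomm, hind, hsup, fun i => (hsimp i).1, fun i => nonab_of_four_dvd (hsimp i).1 (h4 i)⟩
    have hr : 0 < r := by
      by_contra h0
      have h0' : r = 0 := by omega
      subst h0'
      rw [iSup_of_empty] at hsup
      apply hAne
      rw [eq_bot_iff, hsup]
      exact hAK
    have hab : ∀ i, ∀ a ∈ A ⊓ L i, ∀ b ∈ A ⊓ L i, a * b = b * a := by
      intro i a ha b hb
      obtain ⟨Q, hQ⟩ := hcen i
      rw [hQ] at ha hb
      obtain ⟨_, ⟨a, ha, rfl⟩, rfl⟩ := ha
      obtain ⟨_, ⟨b, hb, rfl⟩, rfl⟩ := hb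
      have h1 : b * a = a * b := mem_center_iff.1 ha b
      rw [← map_mul, ← map_mul, ← map_mul, ← map_mul, h1]
    -- the candidate
    let Ω : Subgroup (G ⧸ N) :=
      { carrier := {x | x ∈ compSub D A hAK ∧ x ^ 2 = 1}
        one_mem' := ⟨one_mem _, one_pow 2⟩
        mul_mem' := by
          rintro x y ⟨hx, hx'⟩ ⟨hy, hy'⟩
          refine ⟨mul_mem hx hy, ?_⟩
          have hc : Commute x y := compSub_comm D hAK hab hx hy
          rw [hc.mul_pow, hx', hy', one_mul]
        inv_mem' := by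
          rintro x ⟨hx, hx'⟩
          exact ⟨inv_mem hx, by rw [inv_pow, hx', inv_one]⟩ }
    have hΩ : ∀ x, x ∈ Ω ↔ x ∈ compSub D A hAK ∧ x ^ 2 = 1 := fun x => Iff.rfl
    have hΩA : ∀ x ∈ Ω, x ∈ A := fun x hx => hx.1.1
    -- it is not trivial
    obtain ⟨z, hz, hz1⟩ : ∃ z ∈ Ω, z ≠ 1 := by
      let i : Fin r := ⟨0, hr⟩
      obtain ⟨Q, hQ⟩ := hcen i
      have hQp : IsPGroup 2 (Q : Subgroup (L i)) := Q.isPGroup'
      have hQ1 : Nontrivial (Q : Subgroup (L i)) := by
        rw [Subgroup.nontrivial_iff_ne_bot]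
        intro hb
        have h5 := Q.not_dvd_index
        rw [hb, index_bot] at h5
        exact h5 ((by norm_num : (2 : ℕ) ∣ 4).trans (h4 i))
      have hZ := hQp.center_nontrivial
      have hZp : IsPGroup 2 (center (Q : Subgroup (L i))) := hQp.to_subgroup _
      have h2d : 2 ∣ Nat.card (center (Q : Subgroup (L i))) := by
        obtain ⟨n, hn⟩ := hZp.exists_card_eq
        have h6 : 1 < Nat.card (center (Q : Subgroup (L i))) := Finite.one_lt_card
        rw [hn] at h6 ⊢
        have h7 : n ≠ 0 := by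
          rintro rfl
          simp at h6
        exact dvd_pow_self 2 h7
      have : Fact (Nat.Prime 2) := ⟨Nat.prime_two⟩
      obtain ⟨w, hw⟩ := exists_prime_orderOf_dvd_card' 2 h2d
      have hwA : (((w : (Q : Subgroup (L i))) : L i) : G ⧸ N) ∈ A ⊓ L i := by
        rw [hQ]
        exact ⟨((w : (Q : Subgroup (L i))) : L i), ⟨(w : (Q : Subgroup (L i))), w.2, rfl⟩, rfl⟩
      have hw2 : w ^ 2 = 1 := orderOf_dvd_iff_pow_eq_one.1 hw.dvd
      refine ⟨(((w : (Q : Subgroup (L i))) : L i) : G ⧸ N), ⟨inf_le_compSub D hAK i hwA, ?_⟩, ?_⟩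
      · have h8 := congrArg (fun v : center (Q : Subgroup (L i)) => (((v : (Q : Subgroup (L i))) : L i) : G ⧸ N)) hw2
        simpa using h8
      · intro h9
        have h10 : w = 1 := by
          apply Subtype.ext
          apply Subtype.ext
          apply Subtype.ext
          exact h9
        rw [h10, orderOf_one] at hw
        exact absurd hw (by norm_num)
    have hΩs : ∀ x ∈ Ω, ∀ g : G ⧸ N, g * x * g⁻¹ ∈ (P' : Subgroup (G ⧸ N)) → g * x * g⁻¹ ∈ Ω := by
      intro x hx g hg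
      refine ⟨compSub_strong D inferInstance hAK P' hAP' hx.1 hg, ?_⟩
      rw [conj_pow, hx.2, mul_one, mul_inv_cancel]
    -- the preimage in `S₀`
    have hS₁ : S₀ ⊓ Ω.comap π = S₀ := by
      apply hmin _ inf_le_left
      · intro hb
        obtain ⟨s, hs, hsz⟩ := hΩA z hz
        have h1 : s ∈ S₀ ⊓ Ω.comap π := ⟨hs, by show π s ∈ Ω; rw [hsz]; exact hz⟩
        rw [hb, mem_bot] at h1
        apply hz1
        rw [← hsz, h1, map_one]
      · refine ⟨P, inf_le_left.trans hsc.1, fun x hx g hg => ⟨hsc.2 x hx.1 g hg, ?_⟩⟩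
        show π (g * x * g⁻¹) ∈ Ω
        rw [map_mul, map_mul, map_inv]
        apply hΩs _ hx.2
        rw [hP'c]
        exact ⟨g * x * g⁻¹, hg, by rw [map_mul, map_mul, map_inv]⟩
    have hle : ∀ x ∈ S₀, π x ∈ Ω := by
      intro x hx
      rw [← hS₁] at hx
      exact hx.2
    refine ⟨⟨⟨fun x y => ?_⟩⟩, fun x hx => ?_⟩
    · apply Subtype.ext
      show (x : G) * y = y * x
      have h1 := compSub_comm D hAK hab (hle x x.2).1 (hle y y.2).1
      have h2 : π ((y * x : G)⁻¹ * (x * y)) = 1 := by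
        rw [map_mul, map_inv, map_mul, map_mul, h1, inv_mul_cancel]
      have h3 := hker _ (mul_mem (inv_mem (mul_mem y.2 x.2)) (mul_mem x.2 y.2)) h2
      exact (inv_mul_eq_one.1 h3).symm
    · apply hker _ (pow_mem hx 2)
      rw [map_pow]
      exact (hle x hx).2
  · right
    have h1 : S₀ ⊓ N = S₀ := by
      apply hmin _ inf_le_left hbot
      exact ⟨P, inf_le_left.trans hsc.1, fun x hx g hg => ⟨hsc.2 x hx.1 g hg, hN.conj_mem x hx.2 g⟩⟩
    have h2 : S₀ ≤ N := inf_eq_left.1 h1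
    rw [h1] at hNo
    have h3 : normalClosure (S₀ : Set G) ≤ N := normalClosure_le_normal h2
    intro hd
    have h4 : S₀.relIndex (normalClosure (S₀ : Set G)) * (normalClosure (S₀ : Set G)).relIndex N = S₀.relIndex N :=
      relIndex_mul_relIndex _ _ _ le_normalClosure h3
    apply hNo.not_two_dvd_nat
    rw [← h4]
    exact Dvd.dvd.mul_right hd _

end Cfsg.Agent.H269
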