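import Mathlib
import Cfsg.Agent.H269.StrongSylow
import Cfsg.Prelude.Def_Sz

/-!
# Strongly closed 2-subgroups: the two applications of Foote's theorem
-/

set_option autoImplicit false
set_option linter.unusedSectionVars false

namespace Cfsg.Agent.H269

open Subgroup

universe u

section Iff

variable {G : Type u} [Group G] [Finite G]

/-- A Sylow 2-subgroup of a normal subgroup is strongly closed. -/
theorem stronglyClosed_of_sylow_normal (R N : Subgroup G) (hN : N.Normal) (hRN : R ≤ N)
    (hi : ¬ 2 ∣ R.relIndex N) (hR : IsPGroup 2 R) : ∃ P : Sylow 2 G, Cfsg.IsStronglyClosed R (P : Subgroup G) := by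
  obtain ⟨P, hRP⟩ := hR.exists_le_sylow
  refine ⟨P, hRP, fun x hx g hg => ?_⟩
  have h1 : g * x * g⁻¹ ∈ (P : Subgroup G) ⊓ N := ⟨hg, hN.conj_mem x (hRN hx) g⟩
  have h2 : (P : Subgroup G) ⊓ N ≤ R := by
    have hle : R ≤ (P : Subgroup G) ⊓ N := le_inf hRP hRN
    have h3 : R.relIndex ((P : Subgroup G) ⊓ N) * ((P : Subgroup G) ⊓ N).relIndex N = R.relIndex N :=
      relIndex_mul_relIndex _ _ _ hle inf_le_right
    have h4 : IsPGroup 2 ((P : Subgroup G) ⊓ N : Subgroup G) := P.isPGroup'.to_le inf_le_left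
    obtain ⟨n, hn⟩ := h4.exists_card_eq
    obtain ⟨k, hk, hk'⟩ := (Nat.dvd_prime_pow Nat.prime_two).1
      (hn ▸ relIndex_dvd_card R ((P : Subgroup G) ⊓ N) : R.relIndex ((P : Subgroup G) ⊓ N) ∣ 2 ^ n)
    have h5 : k = 0 := by
      by_contra hk0
      apply hi
      rw [← h3, hk']
      exact Dvd.dvd.mul_right (dvd_pow_self 2 hk0) _
    rw [h5, pow_zero] at hk'
    exact relIndex_eq_one.1 hk'
  exact h2 h1

/-- **The converse**, from the theorem of Foote. -/
theorem exists_normal_of_stronglyClosed (hF : FooteStmt.{u})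
    (hcf : ∀ (H : Subgroup G), H.IsSubnormal → ∀ (N : Subgroup ↥H) [N.Normal], IsSimpleGroup (↥H ⧸ N) →
      (¬ ∃ (F : Type) (_ : Field F) (_ : Fintype F) (n : ℕ), 2 ≤ n ∧ Fintype.card F = 4 ^ n ∧
          Nonempty (↥H ⧸ N ≃* Cfsg.PSU 3 F (2 ^ n))) ∧ ¬ Cfsg.IsSuzuki (↥H ⧸ N))
    (R : Subgroup G) (P : Sylow 2 G) (hR : Cfsg.IsStronglyClosed R (P : Subgroup G)) :
    ∃ N : Subgroup G, N.Normal ∧ R ≤ N ∧ ¬ 2 ∣ R.relIndex N := by
  obtain ⟨N, hN, hNo, hmax⟩ := exists_maximal_normal R
  obtain ⟨P', hP'⟩ := stronglyClosed_quotient hR N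
  set π := QuotientGroup.mk' N with hπ
  by_cases hle : R ≤ N
  · refine ⟨N, hN, hle, ?_⟩
    rw [inf_eq_left.2 hle] at hNo
    exact hNo.not_two_dvd_nat
  · exfalso
    have hev : Even ((R.map π).relIndex (normalClosure (R.map π : Set (G ⧸ N)))) := by
      have h1 := hmax (normalClosure (R.map π : Set (G ⧸ N))) inferInstance (by
        intro hbot
        apply hle
        intro x hx
        have h2 : π x ∈ normalClosure (R.map π : Set (G ⧸ N)) := subset_normalClosure ⟨x, hx, rfl⟩
        rw [hbot, mem_bot] at h2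
        exact (QuotientGroup.eq_one_iff x).1 h2)
      have h3 : R.map π ⊓ normalClosure (R.map π : Set (G ⧸ N)) = R.map π :=
        inf_eq_left.2 le_normalClosure
      rwa [h3] at h1
    obtain ⟨hne, r, L, hcomm, hind, hsup, hsimp, hcen⟩ := hF (G ⧸ N) P' (R.map π) hP' hev hmax
    -- there is at least one factor
    have hr : 0 < r := by
      by_contra h0
      have h0' : r = 0 := by omega
      subst h0'
      rw [iSup_of_empty] at hsup
      apply hne
      rw [eq_bot_iff, hsup]
      exact le_normalClosure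
    let i : Fin r := ⟨0, hr⟩
    -- it is subnormal
    have hLle : L i ≤ normalClosure (R.map π : Set (G ⧸ N)) := by rw [← hsup]; exact le_iSup L i
    have hLn : ((L i).subgroupOf (normalClosure (R.map π : Set (G ⧸ N)))).Normal := by
      rw [normal_subgroupOf_iff_le_normalizer hLle, ← hsup, iSup_le_iff]
      intro j
      by_cases hj : j = i
      · subst hj; exact Subgroup.le_normalizer
      · intro x hx
        have h5 : ∀ z ∈ L i, x * z * x⁻¹ = z := fun z hz => by
          rw [hcomm j i hj x hx z hz, mul_inv_cancel_right]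
        have h6 : ∀ z ∈ L i, x⁻¹ * z * x = z := fun z hz => by
          have h7 := hcomm j i hj x hx z hz
          rw [mul_assoc, ← h7, inv_mul_cancel_left]
        rw [mem_normalizer_iff]
        intro y
        constructor
        · intro hy
          rw [h5 y hy]; exact hy
        · intro hy
          have h8 := h6 _ hy
          have h9 : x⁻¹ * (x * y * x⁻¹) * x = y := by group
          rw [h9] at h8
          rw [h8]; exact hy
    have hLsub : (L i).IsSubnormal :=
      IsSubnormal.step _ _ hLle (Normal.isSubnormal inferInstance) hLn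
    have hH : ((L i).comap π).IsSubnormal := hLsub.comap π
    set H : Subgroup G := (L i).comap π with hHdef
    let f : H →* L i := (π.comp H.subtype).codRestrict (L i) (fun x => x.2)
    have hfs : Function.Surjective f := by
      rintro ⟨y, hy⟩
      obtain ⟨x, rfl⟩ := QuotientGroup.mk'_surjective N y
      exact ⟨⟨x, hy⟩, rfl⟩
    let e : (H ⧸ f.ker) ≃* L i := QuotientGroup.quotientKerEquivOfSurjective f hfs
    have hsimple : IsSimpleGroup (H ⧸ f.ker) := by
      have := (hsimp i).1
      exact e.isSimpleGroup_congr.2 this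
    obtain ⟨h1, h2⟩ := hcf H hH f.ker hsimple
    rcases (hsimp i).2 with ⟨F, _, _, q, hFq, hq, hq4, ⟨e'⟩⟩ | hsz
    · apply h1
      -- `q` is a power of 2
      obtain ⟨p, hp⟩ := CharP.exists F
      obtain ⟨n, hpp, hcard⟩ := FiniteField.card F p
      rw [hFq] at hcard
      have hp2 : p = 2 := by
        have h3 : 2 ∣ q ^ 2 := (even_iff_two_dvd.1 hq).trans (dvd_pow_self q two_ne_zero)
        rw [hcard] at h3
        exact ((Nat.prime_dvd_prime_iff_eq Nat.prime_two hpp).1 (Nat.prime_two.dvd_of_dvd_pow h3)).symm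
      subst hp2
      have h3 : q ∣ 2 ^ (n : ℕ) := by
        rw [← hcard]; exact dvd_pow_self q two_ne_zero
      obtain ⟨m, -, hm⟩ := (Nat.dvd_prime_pow Nat.prime_two).1 h3
      subst hm
      refine ⟨F, inferInstance, inferInstance, m, ?_, ?_, ⟨e.trans e'⟩⟩
      · by_contra h5
        have h6 : m ≤ 1 := by omega
        have h7 : 2 ^ m ≤ 2 ^ 1 := Nat.pow_le_pow_right (by norm_num) h6
        omega
      · rw [hFq, ← pow_mul, mul_comm m 2, pow_mul]
        norm_num
    · apply h2
      obtain ⟨h3, m, hm, hc⟩ := hsz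
      refine ⟨hsimple, m, hm, ?_⟩
      rw [Nat.card_congr e.toEquiv]
      exact hc

end Iff

end Cfsg.Agent.H269
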