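import Cfsg.Agent.H412.Tc.HeisDefs

/-!
# S3621: the quaternion case (lemma QEight)

If `B / Kˣ` has order 4 and no element of `B` outside the scalars has an eigenvector, then an
element which agrees with an element of `B` at every vector is in `B`, unless `V` is a plane
over a prime field.
-/

set_option autoImplicit false

namespace Cfsg.Agent.H269.TcQEight

open Cfsg.Agent.H412.Tc

universe u

section

variable {K V : Type u} [Field K] [AddCommGroup V] [Module K V]

/-- The vectors on which two linear maps agree. -/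
def agr (x y : GV V) (hx : Lin K x) (hy : Lin K y) : Submodule K V where
  carrier := {v | y • v = x • v}
  add_mem' := by
    intro v w hv hw
    change y • (v + w) = x • (v + w)
    rw [smul_add, smul_add]
    exact congrArg₂ (· + ·) hv hw
  zero_mem' := by
    change y • (0 : V) = x • (0 : V)
    rw [smul_zero, smul_zero]
  smul_mem' := by
    intro c v hv
    change y • c • v = x • c • v
    rw [hy, hx]
    exact congrArg (c • ·) hv

theorem mem_agr {x y : GV V} {hx : Lin K x} {hy : Lin K y} {v : V} :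
    v ∈ agr x y hx hy ↔ y • v = x • v := Iff.rfl

/-- An element of square `-1` has no eigenvector if `-1` is not a square. -/
theorem noEig (hK : ∀ c : Kˣ, c ^ 2 ≠ -1) {e : GV V} (he : Lin K e)
    (h2 : e ^ 2 = scal K V (-1)) {v : V} (hv : v ≠ 0) : ¬ Eig K e v := by
  rintro ⟨c, hc⟩
  apply hK c
  have h3 := pow_smul_of_eig he hc 2
  rw [h2, scal_smul] at h3
  have h4 := smul_left_injective K hv h3
  apply Units.ext
  rw [Units.val_pow_eq_pow_val]
  exact h4.symm

theorem eig_of_scal_mul {e : GV V} {c : Kˣ} {v : V} (h : Eig K (scal K V c * e) v) :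
    Eig K e v := by
  obtain ⟨d, hd⟩ := h
  refine ⟨c⁻¹ * d, ?_⟩
  rw [mul_smul, scal_smul] at hd
  rw [Units.val_mul, mul_smul, ← hd, smul_smul, ← Units.val_mul, inv_mul_cancel, Units.val_one,
    one_smul]

variable [Finite K] [Finite V]

/-- A family of at most `4 (q - 1)` proper subspaces intersecting pairwise trivially covers
only spaces of dimension at most `2`. -/
theorem cover {ι : Type*} [Finite ι] (W : ι → Submodule K V) (hne : ∀ i, W i ≠ ⊤)
    (hdis : ∀ i j, i ≠ j → Disjoint (W i) (W j)) (hcov : ∀ v, ∃ i, v ∈ W i)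
    (hι : Nat.card ι ≤ 4 * (Nat.card K - 1)) : Module.finrank K V ≤ 2 := by
  classical
  by_contra hcon
  push Not at hcon
  have hfin := Fintype.ofFinite ι
  have hfK := Fintype.ofFinite K
  have hfV := Fintype.ofFinite V
  have hfd : Module.Finite K V := Module.Finite.of_finite
  obtain ⟨i1, -⟩ := hcov 0
  have hne' : Nonempty ι := ⟨i1⟩
  obtain ⟨i0, hi0⟩ := Finite.exists_max fun i => Module.finrank K (W i)
  set q := Nat.card K with hq
  set n := Module.finrank K V with hn
  set N := Nat.card ι with hN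
  have hq2 : 2 ≤ q := Finite.one_lt_card
  have hcV : Fintype.card V = q ^ n := by
    rw [← Nat.card_eq_fintype_card, Module.natCard_eq_pow_finrank (K := K)]
  have hcW : ∀ i, (Finset.univ.filter (· ∈ W i)).card = q ^ Module.finrank K (W i) := by
    intro i
    rw [← Fintype.card_subtype, ← Nat.card_eq_fintype_card]
    exact Module.natCard_eq_pow_finrank (K := K) (V := W i)
  have hcE : ∀ i, ((Finset.univ.filter (· ∈ W i)).erase 0).card =
      q ^ Module.finrank K (W i) - 1 := by
    intro i
    rw [Finset.card_erase_of_mem (by simp), hcW]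
  have hcount : q ^ n - 1 ≤ ∑ i, (q ^ Module.finrank K (W i) - 1) := by
    calc q ^ n - 1 = (Finset.univ.erase (0 : V)).card := by
          rw [Finset.card_erase_of_mem (Finset.mem_univ _), Finset.card_univ, hcV]
      _ ≤ (Finset.univ.biUnion fun i => (Finset.univ.filter (· ∈ W i)).erase (0 : V)).card := by
          apply Finset.card_le_card
          intro v hv
          obtain ⟨i, hi⟩ := hcov v
          rw [Finset.mem_biUnion]
          refine ⟨i, Finset.mem_univ _, ?_⟩
          rw [Finset.mem_erase] at hv ⊢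
          exact ⟨hv.1, by simpa using hi⟩
      _ ≤ ∑ i, ((Finset.univ.filter (· ∈ W i)).erase (0 : V)).card := Finset.card_biUnion_le
      _ = _ := Finset.sum_congr rfl fun i _ => hcE i
  have hN' : Fintype.card ι = N := by rw [hN, Nat.card_eq_fintype_card]
  set m := Module.finrank K (W i0) with hm
  have hmn : m < n := Submodule.finrank_lt (hne i0)
  rcases Nat.lt_or_ge 1 m with h2 | h2
  · -- a big subspace
    have h3 : ∀ i ∈ Finset.univ.erase i0, q ^ Module.finrank K (W i) - 1 ≤ q ^ (n - m) - 1 := by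
      intro i hi
      have h4 := Submodule.finrank_add_finrank_le_of_disjoint
        (hdis i i0 (Finset.ne_of_mem_erase hi))
      apply Nat.sub_le_sub_right
      apply Nat.pow_le_pow_right (by omega)
      omega
    have h5 : ∑ i, (q ^ Module.finrank K (W i) - 1) ≤
        (q ^ m - 1) + (N - 1) * (q ^ (n - m) - 1) := by
      rw [← Finset.add_sum_erase _ _ (Finset.mem_univ i0)]
      apply Nat.add_le_add_left
      refine (Finset.sum_le_card_nsmul _ _ _ h3).trans ?_
      rw [Finset.card_erase_of_mem (Finset.mem_univ _), Finset.card_univ, hN', smul_eq_mul]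
    have h6 : q ^ n = q ^ m * q ^ (n - m) := by
      rw [← pow_add]; congr 1; omega
    have h7 : q ^ 2 ≤ q ^ m := Nat.pow_le_pow_right (by omega) h2
    have h8 : q ^ 1 ≤ q ^ (n - m) := Nat.pow_le_pow_right (by omega) (by omega)
    rw [pow_one] at h8
    rw [h6] at hcount
    generalize q ^ m = Q at *
    generalize q ^ (n - m) = P at *
    obtain ⟨p, rfl⟩ : ∃ p, P = p + 1 := ⟨P - 1, (Nat.sub_add_cancel (by omega)).symm⟩
    have hp : 0 < p := by omega
    have h9 : Q * p ≤ (N - 1) * p := by
      have h10 := hcount.trans h5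
      rw [Nat.add_sub_cancel, mul_add, mul_one] at h10
      have : 0 < Q := by
        have : 0 < q ^ 2 := by positivity
        omega
      omega
    have h11 : Q ≤ N - 1 := Nat.le_of_mul_le_mul_right h9 hp
    have h12 : q ^ 2 + 1 ≤ 4 * (q - 1) := by
      have : 0 < q ^ 2 := by positivity
      omega
    obtain ⟨t, ht⟩ : ∃ t, q = t + 2 := ⟨q - 2, by omega⟩
    rw [ht] at h12
    have h13 : t + 2 - 1 = t + 1 := by omega
    rw [h13] at h12
    nlinarith
  · have h3 : ∀ i ∈ Finset.univ, q ^ Module.finrank K (W i) - 1 ≤ q - 1 := by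
      intro i _
      apply Nat.sub_le_sub_right
      calc q ^ Module.finrank K (W i) ≤ q ^ 1 :=
            Nat.pow_le_pow_right (by omega) ((hi0 i).trans h2)
        _ = q := pow_one q
    have h5 : ∑ i, (q ^ Module.finrank K (W i) - 1) ≤ N * (q - 1) := by
      refine (Finset.sum_le_card_nsmul _ _ _ h3).trans ?_
      rw [Finset.card_univ, hN', smul_eq_mul]
    have h6 : q ^ 3 ≤ q ^ n := Nat.pow_le_pow_right (by omega) (by omega)
    have h7 : q ^ 3 - 1 ≤ 4 * (q - 1) * (q - 1) := by
      calc q ^ 3 - 1 ≤ q ^ n - 1 := Nat.sub_le_sub_right h6 1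
        _ ≤ N * (q - 1) := hcount.trans h5
        _ ≤ _ := Nat.mul_le_mul_right _ hι
    obtain ⟨t, ht⟩ : ∃ t, q = t + 2 := ⟨q - 2, by omega⟩
    rw [ht] at h7
    have h13 : t + 2 - 1 = t + 1 := by omega
    rw [h13] at h7
    have h14 : (t + 2) ^ 3 ≤ 4 * (t + 1) * (t + 1) + 1 := by omega
    nlinarith [sq_nonneg t]

omit [Finite K] in
/-- The eigenvectors of a linear map of a plane which is not a scalar are in two lines. -/
theorem two_lines (h2 : Module.finrank K V = 2) {f : GV V} (hf : Lin K f)
    (hns : ∀ c : Kˣ, f ≠ scal K V c) :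
    ∃ u w : V, ∀ v : V, Eig K f v → (∃ c : K, v = c • u) ∨ ∃ c : K, v = c • w := by
  by_cases h1 : ∃ u w : V, LinearIndependent K ![u, w] ∧ Eig K f u ∧ Eig K f w
  · obtain ⟨u, w, hli, ⟨c, hc⟩, ⟨d, hd⟩⟩ := h1
    have hfd : Module.Finite K V := Module.Finite.of_finite
    have hsp : ∀ v : V, ∃ α β : K, v = α • u + β • w := by
      intro v
      have h3 := hli.span_eq_top_of_card_eq_finrank' (by simp [h2])
      have h4 : v ∈ Submodule.span K (Set.range ![u, w]) := h3 ▸ Submodule.mem_top
      rw [Matrix.range_cons_cons_empty, Submodule.mem_span_pair] at h4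
      obtain ⟨α, β, h5⟩ := h4
      exact ⟨α, β, h5.symm⟩
    have hcd : c ≠ d := by
      rintro rfl
      apply hns c
      apply GV_ext
      intro v
      obtain ⟨α, β, rfl⟩ := hsp v
      rw [scal_smul, smul_add, hf, hf, hc, hd, smul_add, smul_comm α, smul_comm β]
    refine ⟨u, w, ?_⟩
    rintro v ⟨e, he⟩
    obtain ⟨α, β, rfl⟩ := hsp v
    rw [smul_add, hf, hf, hc, hd, smul_add, smul_smul, smul_smul, smul_smul, smul_smul] at he
    have h5 := LinearIndependent.pair_iff.1 hli (α * c - e * α) (β * d - e * β) (by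
      rw [sub_smul, sub_smul, sub_add_sub_comm, he, sub_self])
    by_cases hα : α = 0
    · right
      exact ⟨β, by rw [hα, zero_smul, zero_add]⟩
    · left
      refine ⟨α, ?_⟩
      have h6 : (c : K) = e := by
        have : α * ((c : K) - e) = 0 := by linear_combination h5.1
        exact sub_eq_zero.1 ((mul_eq_zero.1 this).resolve_left hα)
      have h7 : β = 0 := by
        have : β * ((d : K) - e) = 0 := by linear_combination h5.2
        refine (mul_eq_zero.1 this).resolve_right fun h8 => hcd ?_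
        exact Units.ext (h6.trans (sub_eq_zero.1 h8).symm)
      rw [h7, zero_smul, add_zero]
  · by_cases h3 : ∃ u : V, u ≠ 0 ∧ Eig K f u
    · obtain ⟨u, hu, hfu⟩ := h3
      refine ⟨u, u, fun v hv => Or.inl ?_⟩
      by_contra hcon
      push Not at hcon
      apply h1
      refine ⟨u, v, ?_, hfu, hv⟩
      rw [LinearIndependent.pair_iff' hu]
      intro c hc
      exact hcon c hc.symm
    · refine ⟨0, 0, fun v hv => Or.inl ⟨0, ?_⟩⟩
      rw [zero_smul]
      by_contra hcon
      exact h3 ⟨v, hcon, hv⟩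

omit [Finite K] [Finite V] in
/-- Over a prime field every additive map is linear. -/
theorem lin_of_card {p : ℕ} [Fact p.Prime] (hp : Nat.card K = p) (h : GV V) : Lin K h := by
  intro c v
  obtain ⟨m, hm⟩ : ∃ m : ℤ, m • (1 : K) = c := by
    have h1 := mem_zmultiples_of_prime_card (G := K) hp (g := 1) (g' := c) one_ne_zero
    exact AddSubgroup.mem_zmultiples_iff.1 h1
  have h2 : ∀ w : V, c • w = m • w := by
    intro w
    rw [← hm, zsmul_eq_mul, mul_one, Int.cast_smul_eq_zsmul]
  rw [h2, h2]
  exact map_zsmul (h : V →+ V) m v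

/-- The plane case. -/
theorem plane {A : Subgroup (GV V)} (hA : Group.IsSolvable A) (hK : ∀ c : Kˣ, c ^ 2 ≠ -1)
    (h2 : Module.finrank K V = 2) (hc : Nat.card K ≤ 8) : Group.IsSolvable (cl2 A) := by
  classical
  have hfK := Fintype.ofFinite K
  obtain ⟨p, hp⟩ := CharP.exists K
  obtain ⟨n, hpp, hn⟩ := FiniteField.card K p
  rw [← Nat.card_eq_fintype_card] at hn
  have hp2 : p ≠ 2 := by
    rintro rfl
    apply hK 1
    apply Units.ext
    rw [one_pow, Units.val_neg, Units.val_one, CharTwo.neg_eq]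
  have hp3 : 3 ≤ p := by
    have := hpp.two_le
    omega
  have hn1 : (n : ℕ) = 1 := by
    by_contra hne
    have hn2 : 2 ≤ (n : ℕ) := by
      have := n.pos
      omega
    have h3 : 3 ^ 2 ≤ p ^ (n : ℕ) :=
      (Nat.pow_le_pow_left hp3 2).trans (Nat.pow_le_pow_right (by omega) hn2)
    omega
  rw [hn1, pow_one] at hn
  have hF : Fact p.Prime := ⟨hpp⟩
  have hfd : Module.Finite K V := Module.Finite.of_finite
  refine solvable_of_le ?_ hA
  intro h hh
  let b := Module.finBasisOfFinrankEq K V h2
  obtain ⟨g, hg, h3, h4⟩ := hh (b 0) (b 1)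
  have h5 : g = h := by
    apply GV_ext
    intro v
    rw [← b.sum_repr v, Fin.sum_univ_two, smul_add, smul_add, lin_of_card hn g,
      lin_of_card hn g, lin_of_card hn h, lin_of_card hn h, h3, h4]
  exact h5 ▸ hg

end

variable {K V : Type u} [Field K] [Finite K] [AddCommGroup V] [Finite V] [Module K V]
  {A B : Subgroup (GV V)} {r : ℕ}

theorem QEight.main (S : SetB K V A B 2) (hK : ∀ c : Kˣ, c ^ 2 ≠ -1) {a b : GV V} (ha : a ∈ B)
    (hb : b ∈ B) (ha2 : a ^ 2 = scal K V (-1)) (hb2 : b ^ 2 = scal K V (-1))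
    (hab : CC (-1 : Kˣ) a b)
    (hB : ∀ x ∈ B, ∃ c : Kˣ, x = scal K V c ∨ x = scal K V c * a ∨ x = scal K V c * b ∨
        x = scal K V c * (a * b))
    {y : GV V} (hy : Lin K y) (hv : ∀ v : V, ∃ b ∈ B, y • v = b • v) :
    y ∈ B ∨ Group.IsSolvable (cl2 A) := by
  classical
  by_cases hyB : y ∈ B
  · exact Or.inl hyB
  right
  have hfK := Fintype.ofFinite K
  have hfd : Module.Finite K V := Module.Finite.of_finite
  have hfE : Finite (GV V) := by
    refine Finite.of_injective (fun g : GV V => fun v : V => g • v) ?_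
    intro g h hgh
    exact GV_ext fun v => congrFun hgh v
  have hnt : Nontrivial V := by
    rw [← Finite.one_lt_card_iff_nontrivial]
    have := S.card
    omega
  have hla : Lin K a := S.heis.linb ha
  have hlb : Lin K b := S.heis.linb hb
  have hab2 : (a * b) ^ 2 = scal K V (-1) := by
    have h1 := hab.symm.mul_pow hla hlb 2
    rw [ha2, hb2] at h1
    rw [h1, ← map_mul, ← map_mul]
    congr 1
    norm_num
  -- elements of `B` with eigenvectors are scalars
  have heig : ∀ x ∈ B, ∀ v : V, v ≠ 0 → Eig K x v → ∃ c : Kˣ, x = scal K V c := by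
    intro x hx v hv0 hxv
    obtain ⟨c, h1 | h1 | h1 | h1⟩ := hB x hx
    · exact ⟨c, h1⟩
    · rw [h1] at hxv
      exact absurd (eig_of_scal_mul hxv) (noEig hK hla ha2 hv0)
    · rw [h1] at hxv
      exact absurd (eig_of_scal_mul hxv) (noEig hK hlb hb2 hv0)
    · rw [h1] at hxv
      exact absurd (eig_of_scal_mul hxv) (noEig hK (hla.mul hlb) hab2 hv0)
  have hfree : ∀ x ∈ B, ∀ x' ∈ B, ∀ v : V, v ≠ 0 → x • v = x' • v → x = x' := by
    intro x hx x' hx' v hv0 h1
    have h2 : (x⁻¹ * x') • v = v := by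
      rw [mul_smul, ← h1, inv_smul_smul]
    obtain ⟨c, hc⟩ := heig (x⁻¹ * x') (B.mul_mem (B.inv_mem hx) hx') v hv0
      ⟨1, by rw [h2, Units.val_one, one_smul]⟩
    rw [hc, scal_smul] at h2
    have h3 : (c : K) • v = (1 : K) • v := by rw [h2, one_smul]
    have h4 : c = 1 := Units.ext (smul_left_injective K hv0 h3)
    rw [h4, map_one, inv_mul_eq_one] at hc
    exact hc
  -- the dimension is at least 2
  have hdim2 : 2 ≤ Module.finrank K V := by
    by_contra hcon
    have h1 : Module.finrank K V ≤ 1 := by omega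
    obtain ⟨v0, h2⟩ := finrank_le_one_iff.1 h1
    have h3 : v0 ≠ 0 := by
      rintro rfl
      obtain ⟨w, hw⟩ := exists_ne (0 : V)
      obtain ⟨c, hc⟩ := h2 w
      rw [smul_zero] at hc
      exact hw hc.symm
    obtain ⟨c, hc⟩ := h2 (a • v0)
    exact noEig hK hla ha2 h3 (unit_of_smul h3 hc.symm)
  -- the size of `B`
  have hcard : Nat.card B ≤ 4 * (Nat.card K - 1) := by
    let e : Fin 4 → GV V := ![1, a, b, a * b]
    have he : ∀ i, e i ∈ B := by
      intro i
      fin_cases i
      · exact B.one_mem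
      · exact ha
      · exact hb
      · exact B.mul_mem ha hb
    let f : Fin 4 × Kˣ → B := fun z =>
      ⟨scal K V z.2 * e z.1, B.mul_mem (S.heis.scal_mem z.2) (he z.1)⟩
    have hf : Function.Surjective f := by
      rintro ⟨x, hx⟩
      obtain ⟨c, h1 | h1 | h1 | h1⟩ := hB x hx
      · exact ⟨(0, c), Subtype.ext ((mul_one _).trans h1.symm)⟩
      · exact ⟨(1, c), Subtype.ext h1.symm⟩
      · exact ⟨(2, c), Subtype.ext h1.symm⟩
      · exact ⟨(3, c), Subtype.ext h1.symm⟩
    have h1 := Nat.card_le_card_of_surjective f hf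
    rw [Nat.card_prod, Nat.card_fin, Nat.card_units] at h1
    exact h1
  -- the dimension is at most 2
  have hdim : Module.finrank K V ≤ 2 := by
    refine cover (ι := B) (fun x => agr x.1 y (S.heis.linb x.2) hy) ?_ ?_ ?_ hcard
    · intro x hx
      apply hyB
      have h1 : y = x.1 := by
        apply GV_ext
        intro v
        have h2 : v ∈ agr x.1 y (S.heis.linb x.2) hy := hx ▸ Submodule.mem_top
        exact h2
      rw [h1]
      exact x.2
    · intro x x' hne
      rw [Submodule.disjoint_def]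
      intro v hv1 hv2
      by_contra hv0
      apply hne
      apply Subtype.ext
      refine hfree x.1 x.2 x'.1 x'.2 v hv0 ?_
      rw [← mem_agr.1 hv1, ← mem_agr.1 hv2]
    · intro v
      obtain ⟨x, hx, h1⟩ := hv v
      exact ⟨⟨x, hx⟩, h1⟩
  have h2 : Module.finrank K V = 2 := le_antisymm hdim hdim2
  -- the field is small
  apply plane S.solv hK h2
  have hline : ∀ e ∈ B, ∃ u w : V, ∀ v : V, Eig K (e⁻¹ * y) v →
      (∃ c : K, v = c • u) ∨ ∃ c : K, v = c • w := by
    intro e he
    refine two_lines h2 ((S.heis.linb he).inv.mul hy) ?_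
    intro c hc
    apply hyB
    rw [inv_mul_eq_iff_eq_mul] at hc
    rw [hc]
    exact B.mul_mem he (S.heis.scal_mem c)
  let e : Fin 4 → GV V := ![1, a, b, a * b]
  have he : ∀ i, e i ∈ B := by
    intro i
    fin_cases i
    · exact B.one_mem
    · exact ha
    · exact hb
    · exact B.mul_mem ha hb
  choose u w huw using fun i => hline (e i) (he i)
  have hcov : ∀ v : V, ∃ i, Eig K ((e i)⁻¹ * y) v := by
    intro v
    obtain ⟨x, hx, h1⟩ := hv v
    obtain ⟨i, c, hi⟩ : ∃ (i : Fin 4) (c : Kˣ), x = scal K V c * e i := by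
      obtain ⟨c, h1 | h1 | h1 | h1⟩ := hB x hx
      · exact ⟨0, c, by rw [h1]; exact (mul_one _).symm⟩
      · exact ⟨1, c, by rw [h1]; rfl⟩
      · exact ⟨2, c, by rw [h1]; rfl⟩
      · exact ⟨3, c, by rw [h1]; rfl⟩
    refine ⟨i, c, ?_⟩
    rw [mul_smul, h1, hi, ← (S.heis.linb (he i)).scal_comm, mul_smul, inv_smul_smul, scal_smul]
  let f : (Fin 4 × Bool) × K → V := fun z => z.2 • (if z.1.2 then u z.1.1 else w z.1.1)
  have hf : Function.Surjective f := by
    intro v
    obtain ⟨i, hi⟩ := hcov v
    rcases huw i v hi with ⟨c, hc⟩ | ⟨c, hc⟩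
    · exact ⟨((i, true), c), hc.symm⟩
    · exact ⟨((i, false), c), hc.symm⟩
  have h3 := Nat.card_le_card_of_surjective f hf
  rw [Module.natCard_eq_pow_finrank (K := K) (V := V), h2, Nat.card_prod, Nat.card_prod,
    Nat.card_fin] at h3
  have h4 : Nat.card Bool = 2 := by simp
  rw [h4, sq] at h3
  exact Nat.le_of_mul_le_mul_right h3 Nat.card_pos

end Cfsg.Agent.H269.TcQEight
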